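import Cfsg.Agent.Lib.MaxNorm13.Small
import Cfsg.Agent.S0205
import Mathlib.GroupTheory.SchurZassenhaus

/-!
The property passes to the quotient by the solvable radical, which has a simple socle.
-/

set_option autoImplicit false
set_option linter.unusedSectionVars false

namespace Cfsg.Agent.MaxNorm13

open Subgroup

universe u

section Quotient

variable {G : Type u} [Group G] [Finite G] {X : Type u} [Group X] [Finite X] (π : G →* X)

/-- A smallest preimage has no further prime divisors. -/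
theorem exists_small_preimage (hπ : Function.Surjective π) (H : Subgroup X) :
    ∃ H' : Subgroup G, H'.map π = H ∧ ∀ r : ℕ, r.Prime → r ∣ Nat.card H' → r ∣ Nat.card H := by
  obtain ⟨H', ⟨hH', hmin⟩⟩ := Set.Finite.exists_minimal (s := {K : Subgroup G | K.map π = H}) (Set.toFinite _)
    ⟨H.comap π, map_comap_eq_self_of_surjective hπ H⟩
  refine ⟨H', hH', fun r hr hd => ?_⟩
  by_contra hnd
  haveI := Fact.mk hr
  obtain ⟨P⟩ := (inferInstance : Nonempty (Sylow r H'))
  set N := (π.comp H'.subtype).ker with hN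
  have hPN : (P : Subgroup H') ≤ N := by
    intro a ha
    rw [MonoidHom.mem_ker]
    obtain ⟨k, hk⟩ := IsPGroup.iff_orderOf.1 P.2 ⟨a, ha⟩
    rw [orderOf_mk] at hk
    refine orderOf_eq_one_iff.1 ?_
    obtain ⟨i, hi, e⟩ := (Nat.dvd_prime_pow hr).1 (hk ▸ orderOf_map_dvd (π.comp H'.subtype) a)
    have hmem : π (a : G) ∈ H := hH' ▸ ⟨(a : G), a.2, rfl⟩
    have : orderOf ((π.comp H'.subtype) a) ∣ Nat.card H :=
      (orderOf_coe (⟨π (a : G), hmem⟩ : H)).symm ▸ orderOf_dvd_natCard _
    rcases Nat.eq_zero_or_pos i with rfl | hi0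
    · rw [e, pow_zero]
    · exact absurd ((dvd_pow_self r hi0.ne').trans (e ▸ this)) hnd
  have hfull : ∀ M : Subgroup H', M ⊔ N = ⊤ → M = ⊤ := by
    intro M hM
    have h1 : (M.map H'.subtype).map π = H := by
      have h2 := congrArg (Subgroup.map (π.comp H'.subtype)) hM
      rw [Subgroup.map_sup, (Subgroup.map_eq_bot_iff (f := π.comp H'.subtype) N).2 le_rfl, sup_bot_eq] at h2
      rw [map_map, h2, ← map_map, ← MonoidHom.range_eq_map, range_subtype, hH']
    have h3 : H' ≤ M.map H'.subtype := hmin h1 (map_subtype_le M)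
    exact (eq_top_iff' M).2 fun a => by
      obtain ⟨b, hb, e⟩ := h3 a.2
      exact (Subtype.ext e : b = a) ▸ hb
  haveI : (P : Subgroup H').Normal :=
    normalizer_eq_top_iff.1 (hfull _ (Sylow.normalizer_sup_eq_top' P hPN))
  obtain ⟨M, hM⟩ := exists_right_complement'_of_coprime P.card_coprime_index
  have hMtop : M = ⊤ := hfull M (top_le_iff.1 (hM.sup_eq_top.ge.trans
    (sup_le (hPN.trans le_sup_right) le_sup_left)))
  exact P.ne_bot_of_dvd_card hd (disjoint_top.1 (hMtop ▸ hM.disjoint))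

variable (hπ : Function.Surjective π)
include hπ

theorem maxNorm_map (hker : π.ker ≤ Components.solvRadical G) (h : MaxNorm G) : MaxNorm X := by
  rintro H hns ⟨p, q, hp, hq, hpq⟩
  obtain ⟨H', hH', hr⟩ := exists_small_preimage π hπ H
  have hns' : ¬ H'.IsSubnormal := fun hs => hns (hH' ▸ hs.map hπ)
  have hco := h H' hns' ⟨p, q, hp, hq, fun r hrp hd => hpq r hrp (hr r hrp hd)⟩
  have hne : normalizer (H : Set X) ≠ ⊤ := fun e => hns (normalizer_eq_top_iff.1 e).isSubnormal
  have hle : normalizer (H' : Set G) ≤ (normalizer (H : Set X)).comap π := by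
    intro g hg
    rw [mem_comap]
    refine mem_normalizer_fintype fun a ha => ?_
    rw [← hH'] at ha ⊢
    obtain ⟨b, hb, rfl⟩ := ha
    exact ⟨g * b * g⁻¹, (mem_normalizer_iff.1 hg b).1 hb, by rw [map_mul, map_mul, map_inv]⟩
  have heq := (hco.le_iff.1 hle).resolve_left fun e => hne (by
    rw [← map_comap_eq_self_of_surjective hπ (normalizer (H : Set X)), e, map_top_of_surjective π hπ])
  refine ⟨hne, fun L hL => ?_⟩
  rw [← map_comap_eq_self_of_surjective hπ L, ← map_top_of_surjective π hπ]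
  exact congrArg _ (hco.2 _ (heq ▸ (comap_lt_comap_of_surjective hπ).2 hL))

theorem solvRadical_eq_bot (hker : π.ker = Components.solvRadical G) : Components.solvRadical X = ⊥ := by
  haveI := Components.solvRadical_normal (G := X)
  haveI := Components.solvRadical_solvable (G := X)
  set R := Components.solvRadical X
  set W := R.comap π with hW
  haveI hWs : Group.IsSolvable W := by
    haveI : Group.IsSolvable π.ker := hker.symm ▸ Components.solvRadical_solvable
    let f : W →* R := (π.comp W.subtype).codRestrict R fun a => a.2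
    refine Group.isSolvable_of_ker_le_range (inclusion (show π.ker ≤ W from fun a ha => ?_)) f fun a ha => ?_
    · show π a ∈ R
      rw [MonoidHom.mem_ker.1 ha]
      exact one_mem R
    · exact ⟨⟨a, congrArg Subtype.val ha⟩, rfl⟩
  have hle : W ≤ π.ker := hker.symm ▸ Components.le_solvRadical inferInstance hWs
  refine (eq_bot_iff_forall _).2 fun x hx => ?_
  obtain ⟨g, rfl⟩ := hπ x
  exact hle hx

end Quotient

variable {X : Type u} [Group X] [Finite X] (hX : Hyp X)
include hX

/-- Two commuting subnormal subgroups are not both nontrivial. -/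
theorem commuting_false {A B : Subgroup X} (hA : A.IsSubnormal) (hB : B.IsSubnormal) (hAne : A ≠ ⊥)
    (hBne : B ≠ ⊥) (hc : ∀ a ∈ A, ∀ b ∈ B, Commute a b) : False := by
  haveI : Fact (Nat.Prime 2) := ⟨Nat.prime_two⟩
  have hbot : ∀ {C : Subgroup X}, C.IsSubnormal → Group.IsSolvable C → C = ⊥ := fun hC hs =>
    le_bot_iff.1 (hX.rad ▸ Components.subnormal_solvable_le_radical hC hs)
  obtain ⟨p, hp, hp2, hpd⟩ : ∃ p : ℕ, p.Prime ∧ p ≠ 2 ∧ p ∣ Nat.card A := by
    by_contra hcon
    push Not at hcon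
    have h2 : IsPGroup 2 A := IsPGroup.of_card (Nat.eq_prime_pow_of_unique_prime_dvd Nat.card_pos.ne'
      fun {d} hd hdd => by_contra fun hne => hcon d hd hne hdd)
    haveI := h2.isNilpotent
    exact hAne (hbot hA inferInstance)
  have hBeven : 2 ∣ Nat.card B := by
    refine even_iff_two_dvd.1 (Nat.not_odd_iff_even.1 fun ho => hBne (hbot hB ?_))
    exact S0205.result ho
  haveI := Fact.mk hp
  obtain ⟨⟨x, hx⟩, hxo⟩ := exists_prime_orderOf_dvd_card' (G := A) p hpd
  obtain ⟨⟨y, hy⟩, hyo⟩ := exists_prime_orderOf_dvd_card' (G := B) 2 hBeven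
  rw [orderOf_mk] at hxo hyo
  have hxy : Commute x y := hc x hx y hy
  have hxp : x ^ p = 1 := hxo ▸ pow_orderOf_eq_one x
  have hy2 : y ^ 2 = 1 := hyo ▸ pow_orderOf_eq_one y
  set H := zpowers (x * y) with hH
  have ho : orderOf (x * y) = p * 2 := by
    rw [hxy.orderOf_mul_eq_mul_orderOf_of_coprime (by rw [hxo, hyo]; exact Nat.coprime_two_right.2 (hp.odd_of_ne_two hp2)),
      hxo, hyo]
  have hx1 : x ≠ 1 := fun h => by rw [h, orderOf_one] at hxo; exact hp.ne_one hxo.symm
  have hHne : H ≠ ⊥ := by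
    rw [hH, Ne, zpowers_eq_bot]
    intro h
    rw [h, orderOf_one] at ho
    omega
  have hco := hX.coatom (H := H) inferInstance ⟨2, p, Nat.prime_two, hp, fun r hr hd => by
    rw [hH, Nat.card_zpowers, ho] at hd
    rcases (Nat.Prime.dvd_mul hr).1 hd with h | h
    · exact Or.inr ((Nat.prime_dvd_prime_iff_eq hr hp).1 h)
    · exact Or.inl ((Nat.prime_dvd_prime_iff_eq hr Nat.prime_two).1 h)⟩ hHne
  have hodd := hp.odd_of_ne_two hp2
  have hxH : x ∈ H := by
    obtain ⟨j, hj⟩ := hodd
    have : x = (x * y) ^ (p + 1) := by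
      rw [hxy.mul_pow, pow_succ x p, hxp, one_mul, show p + 1 = 2 * (j + 1) by omega, pow_mul y, hy2, one_pow,
        mul_one]
    rw [this]
    exact pow_mem (mem_zpowers _) _
  have hyH : y ∈ H := by
    obtain ⟨j, hj⟩ := hodd
    have : y = (x * y) ^ p := by
      rw [hxy.mul_pow, hxp, one_mul, hj, pow_succ, pow_mul, hy2, one_pow, one_mul]
    rw [this]
    exact pow_mem (mem_zpowers _) _
  have h1 : normalizer (H : Set X) ≤ normalizer (zpowers x : Set X) := by
    intro g hg
    refine mem_normalizer_zpowers ?_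
    obtain ⟨i, hi⟩ := mem_zpowers_iff.1 ((mem_normalizer_iff.1 hg x).1 hxH)
    rw [← hi, hxy.mul_zpow]
    have h : (g * x * g⁻¹) ^ p = 1 := by rw [conj_pow, hxp, mul_one, mul_inv_cancel]
    rw [← hi, ← zpow_natCast, ← zpow_mul, hxy.mul_zpow, mul_comm i, zpow_mul, zpow_natCast, hxp, one_zpow,
      one_mul, ← orderOf_dvd_iff_zpow_eq_one, hyo] at h
    have h2 : (2 : ℤ) ∣ i := by
      refine (Int.prime_two.dvd_or_dvd h).resolve_left fun hd => hp2 ?_
      exact ((Nat.prime_dvd_prime_iff_eq Nat.prime_two hp).1 (by exact_mod_cast hd)).symm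
    rw [orderOf_dvd_iff_zpow_eq_one.1 (show (orderOf y : ℤ) ∣ i by rw [hyo]; exact h2), mul_one]
    exact zpow_mem (mem_zpowers x) i
  have h2 : normalizer (H : Set X) ≤ Cz y := by
    intro g hg
    rw [mem_Cz']
    obtain ⟨i, hi⟩ := mem_zpowers_iff.1 ((mem_normalizer_iff.1 hg y).1 hyH)
    have h : (g * y * g⁻¹) ^ 2 = 1 := by rw [conj_pow, hy2, mul_one, mul_inv_cancel]
    rw [← hi, ← zpow_natCast, ← zpow_mul, hxy.mul_zpow, mul_comm i, zpow_mul y, zpow_natCast, hy2, one_zpow,
      mul_one, ← orderOf_dvd_iff_zpow_eq_one, hxo] at h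
    have hpi : (p : ℤ) ∣ i := by
      refine ((Nat.prime_iff_prime_int.1 hp).dvd_or_dvd h).resolve_left fun hd => hp2 ?_
      exact (Nat.prime_dvd_prime_iff_eq hp Nat.prime_two).1 (by exact_mod_cast hd)
    rw [hxy.mul_zpow, orderOf_dvd_iff_zpow_eq_one.1 (show (orderOf x : ℤ) ∣ i by rw [hxo]; exact hpi),
      one_mul] at hi
    rcases Int.even_or_odd' i with ⟨j, rfl | rfl⟩
    · rw [zpow_mul, zpow_two, ← pow_two, hy2, one_zpow, eq_comm, conj_eq_one_iff] at hi
      exact absurd hi (ne_one_of_two hyo)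
    · rw [zpow_add, zpow_mul, zpow_two, ← pow_two, hy2, one_zpow, one_mul, zpow_one] at hi
      exact hi.symm
  have hCy : Cz y ≠ ⊤ := hX.Cz_ne_top hyo
  have hNx : normalizer (zpowers x : Set X) ≠ ⊤ :=
    hX.not_normal inferInstance (by rwa [Ne, zpowers_eq_bot])
  have e1 := (hco.le_iff.1 h1).resolve_left hNx
  have hBy : B ≤ Cz y := by
    intro b hb
    refine h2 ?_
    rw [← e1]
    refine mem_normalizer_zpowers ?_
    rw [(hc x hx b hb).eq.symm, mul_inv_cancel_right]
    exact mem_zpowers x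
  have hZ : (center B).map B.subtype = ⊥ := by
    haveI : Group.IsSolvable (center B) := Group.isSolvable_of_comm fun a b =>
      Subtype.ext (mem_center_iff.1 b.2 a.1)
    exact hbot ((Normal.isSubnormal inferInstance).trans' hB) (Components.isSolvable_map _ _)
  exact ne_one_of_two hyo ((eq_bot_iff_forall _).1 hZ y
    ⟨⟨y, hy⟩, mem_center_iff.2 fun b => Subtype.ext (mem_Cz.1 (hBy b.2)), rfl⟩)

theorem exists_socle [Nontrivial X] : ∃ S : Subgroup X, Socle S := by
  obtain ⟨N, ⟨hNn, hNne⟩, hmin⟩ := Set.Finite.exists_minimal (s := {K : Subgroup X | K.Normal ∧ K ≠ ⊥})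
    (Set.toFinite _) ⟨⊤, inferInstance, top_ne_bot⟩
  haveI := hNn
  have hnab : ¬ IsMulCommutative N := fun h => hNne (le_bot_iff.1 (hX.rad ▸ Components.le_solvRadical hNn
    (Group.isSolvable_of_comm fun a b => h.is_comm.comm a b)))
  have hsimple : IsSimpleGroup N := by
    haveI : Nontrivial N := (nontrivial_iff_ne_bot N).2 hNne
    refine ⟨fun L hL => or_iff_not_imp_left.2 fun hLne => ?_⟩
    obtain ⟨L0, ⟨⟨hL0n, hL0ne, hL0le⟩, hL0min⟩⟩ := Set.Finite.exists_minimal
      (s := {K : Subgroup N | K.Normal ∧ K ≠ ⊥ ∧ K ≤ L}) (Set.toFinite _) ⟨L, hL, hLne, le_rfl⟩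
    refine top_le_iff.1 (le_trans (le_of_eq ?_) hL0le)
    set L' := L0.map N.subtype
    suffices hnorm : L'.Normal by
      have h1 : N ≤ L' := hmin ⟨hnorm, fun e => hL0ne ((map_eq_bot_iff_of_injective _ N.subtype_injective).1 e)⟩
        (map_subtype_le L0)
      exact ((eq_top_iff' L0).2 fun a => by
        obtain ⟨b, hb, e⟩ := h1 a.2
        exact (Subtype.ext e : b = a) ▸ hb).symm
    refine ⟨fun a ha g => ?_⟩
    set L2 : Subgroup N := L0.map (MulAut.conjNormal g : MulAut N).toMonoidHom with hL2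
    haveI hL2n : L2.Normal := hL0n.map _ (MulEquiv.surjective _)
    haveI := hL0n
    have hsub : ∀ K : Subgroup N, K.Normal → (K.map N.subtype).IsSubnormal := fun K hK =>
      (Normal.isSubnormal hK).trans' hNn.isSubnormal
    by_cases hcap : L0 ⊓ L2 = ⊥
    · refine (commuting_false hX (hsub L0 hL0n) (hsub L2 hL2n)
        (fun e => hL0ne ((map_eq_bot_iff_of_injective _ N.subtype_injective).1 e))
        (fun e => hL0ne ((map_eq_bot_iff_of_injective _ (MulEquiv.injective _)).1
          ((map_eq_bot_iff_of_injective _ N.subtype_injective).1 e))) ?_).elim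
      rintro _ ⟨b, hb, rfl⟩ _ ⟨c, hc, rfl⟩
      exact (Subgroup.commute_of_normal_of_disjoint L0 L2 hL0n hL2n (disjoint_iff.2 hcap) b c hb hc).map N.subtype
    · have h1 : L0 ≤ L2 := (hL0min ⟨inferInstance, hcap, inf_le_left.trans hL0le⟩ inf_le_left).trans inf_le_right
      have h2 : L0 = L2 := eq_of_le_of_card_ge h1 (by
        rw [hL2, card_map_of_injective (MulEquiv.injective _)])
      obtain ⟨b, hb, rfl⟩ := ha
      exact ⟨MulAut.conjNormal g b, h2 ▸ mem_map_of_mem _ hb, MulAut.conjNormal_apply g b⟩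
  refine ⟨N, hNn, hsimple, hnab, ?_⟩
  by_contra hC
  exact commuting_false hX hNn.isSubnormal (normal_centralizer hNn).isSubnormal hNne hC
    fun a ha b hb => mem_centralizer_iff.1 hb a ha
where
  normal_centralizer {N : Subgroup X} (hN : N.Normal) : (centralizer (N : Set X)).Normal := by
    haveI := hN
    infer_instance

end Cfsg.Agent.MaxNorm13
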