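import Cfsg.Agent.Lib.Components.Fitting
import Cfsg.Agent.S4211
import Mathlib.GroupTheory.Nilpotent
import Mathlib.GroupTheory.Sylow

/-!
Groups without solvable normal subgroups in which the non-subnormal subgroups with at most two prime
divisors have maximal normalisers: the centralisers of involutions.
-/

set_option autoImplicit false
set_option linter.unusedSectionVars false

namespace Cfsg.Agent.MaxNorm13

open Subgroup

universe u

variable {X : Type u} [Group X] [Finite X]

/-- At most two prime divisors. -/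
def TwoPrime (H : Subgroup X) : Prop :=
  ∃ p q : ℕ, p.Prime ∧ q.Prime ∧ ∀ r : ℕ, r.Prime → r ∣ Nat.card H → r = p ∨ r = q

/-- The property of the theorem. -/
def MaxNorm (X : Type u) [Group X] : Prop :=
  ∀ H : Subgroup X, ¬ H.IsSubnormal → TwoPrime H → IsCoatom (normalizer (H : Set X))

/-- The standing hypothesis. -/
structure Hyp (X : Type u) [Group X] : Prop where
  rad : Components.solvRadical X = ⊥
  max : MaxNorm X

/-- The centraliser of an element. -/
abbrev Cz (t : X) : Subgroup X := centralizer ({t} : Set X)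

theorem mem_Cz {t g : X} : g ∈ Cz t ↔ g * t = t * g := mem_centralizer_singleton_iff

theorem mem_Cz' {t g : X} : g ∈ Cz t ↔ g * t * g⁻¹ = t := by rw [mem_Cz, mul_inv_eq_iff_eq_mul]

theorem self_mem_Cz (t : X) : t ∈ Cz t := mem_Cz.2 rfl

theorem inv_self {t : X} (ht : orderOf t = 2) : t * t = 1 := by
  rw [← pow_two, ← ht, pow_orderOf_eq_one]

theorem ne_one_of_two {t : X} (ht : orderOf t = 2) : t ≠ 1 := fun h => by simp [h] at ht

theorem two_conj {t : X} (ht : orderOf t = 2) (g : X) : orderOf (g * t * g⁻¹) = 2 := by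
  rw [← ht]
  exact orderOf_injective (MulAut.conj g).toMonoidHom (MulAut.conj g).injective t

theorem zpowers_conj_mem {g : X} (x : X) :
    g ∈ normalizer (zpowers x : Set X) → g * x * g⁻¹ ∈ zpowers x := fun h =>
  (mem_normalizer_iff.1 h x).1 (mem_zpowers x)

theorem isPGroup_zpowers {p k : ℕ} {x : X} (hx : orderOf x = p ^ k) : IsPGroup p (zpowers x) :=
  IsPGroup.of_card (n := k) (by rw [Nat.card_zpowers, hx])

variable (hX : Hyp X)
include hX

theorem Hyp.coatom {H : Subgroup X} (hs : Group.IsSolvable H) (h2 : TwoPrime H) (hne : H ≠ ⊥) :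
    IsCoatom (normalizer (H : Set X)) :=
  hX.max H (fun h => hne (le_bot_iff.1 (hX.rad ▸ Components.subnormal_solvable_le_radical h hs))) h2

theorem Hyp.not_normal {H : Subgroup X} (hs : Group.IsSolvable H) (hne : H ≠ ⊥) :
    normalizer (H : Set X) ≠ ⊤ := fun h =>
  hne (le_bot_iff.1 (hX.rad ▸ Components.le_solvRadical (normalizer_eq_top_iff.1 h) hs))

theorem Hyp.coatom_pgroup {p : ℕ} (hp : p.Prime) {H : Subgroup X} (hH : IsPGroup p H) (hne : H ≠ ⊥) :
    IsCoatom (normalizer (H : Set X)) := by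
  haveI := Fact.mk hp
  haveI := hH.isNilpotent
  refine hX.coatom inferInstance ⟨p, p, hp, hp, fun r hr hd => ?_⟩ hne
  obtain ⟨n, hn⟩ := IsPGroup.iff_card.1 hH
  rw [hn] at hd
  exact Or.inl ((Nat.prime_dvd_prime_iff_eq hr hp).1 (hr.dvd_of_dvd_pow hd))

theorem Hyp.normalizer_involution {t : X} (ht : orderOf t = 2) :
    normalizer (zpowers t : Set X) = Cz t := by
  refine le_antisymm (fun g hg => mem_Cz'.2 ?_) fun g hg => ?_
  · have h := zpowers_conj_mem t hg
    rw [mem_zpowers_iff] at h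
    obtain ⟨k, hk⟩ := h
    rcases Int.even_or_odd' k with ⟨j, rfl | rfl⟩
    · rw [zpow_mul, zpow_two, inv_self ht, one_zpow, eq_comm, conj_eq_one_iff] at hk
      exact absurd hk (ne_one_of_two ht)
    · rw [zpow_add, zpow_mul, zpow_two, inv_self ht, one_zpow, one_mul, zpow_one] at hk
      exact hk.symm
  · refine centralizer_le_normalizer _ (mem_centralizer_iff.2 fun x hx => ?_)
    obtain ⟨k, rfl⟩ := mem_zpowers_iff.1 hx
    exact ((Commute.zpow_right (mem_Cz.1 hg : Commute g t) k).eq).symm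

theorem Hyp.coatom_Cz {t : X} (ht : orderOf t = 2) : IsCoatom (Cz t) := by
  rw [← hX.normalizer_involution ht]
  refine hX.coatom_pgroup Nat.prime_two (isPGroup_zpowers (k := 1) (by rw [ht, pow_one])) ?_
  rw [Ne, zpowers_eq_bot]
  exact ne_one_of_two ht

theorem Hyp.Cz_ne_top {t : X} (ht : orderOf t = 2) : Cz t ≠ ⊤ := (hX.coatom_Cz ht).1

theorem Hyp.eq_of_le {t : X} (ht : orderOf t = 2) {L : Subgroup X} (hle : Cz t ≤ L) (hne : L ≠ ⊤) :
    L = Cz t :=
  ((hX.coatom_Cz ht).le_iff.1 hle).resolve_left hne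

/-- Odd prime-power subgroups of the centraliser of an involution have it as normaliser. -/
theorem Hyp.normalizer_eq {t : X} (ht : orderOf t = 2) {p : ℕ} (hp : p.Prime) (hp2 : p ≠ 2)
    {Y : Subgroup X} (hY : Y ≤ Cz t) (hYp : IsPGroup p Y) (hne : Y ≠ ⊥) :
    normalizer (Y : Set X) = Cz t := by
  haveI := Fact.mk hp
  haveI := hYp.isNilpotent
  have hodd : ∀ y ∈ Y, Odd (orderOf y) := fun y hy => by
    obtain ⟨k, hk⟩ := IsPGroup.iff_orderOf.1 hYp ⟨y, hy⟩
    rw [orderOf_mk] at hk
    rw [hk]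
    exact (hp.odd_of_ne_two hp2).pow
  have hc : ∀ y ∈ Y, Commute y t := fun y hy => mem_Cz.1 (hY hy)
  have htt := inv_self ht
  have htY : t ∉ Y := fun h => by exact absurd (hodd t h) (by rw [ht]; decide)
  let H : Subgroup X :=
    { carrier := {h | ∃ y ∈ Y, h = y ∨ h = y * t}
      one_mem' := ⟨1, one_mem Y, Or.inl rfl⟩
      mul_mem' := by
        rintro a b ⟨y, hy, ha⟩ ⟨z, hz, hb⟩
        refine ⟨y * z, mul_mem hy hz, ?_⟩
        rcases ha with rfl | rfl <;> rcases hb with rfl | rfl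
        · exact Or.inl rfl
        · exact Or.inr (mul_assoc _ _ _).symm
        · right; rw [mul_assoc, ← (hc _ hz).eq, mul_assoc]
        · left; rw [mul_assoc, ← mul_assoc t, ← (hc _ hz).eq, mul_assoc, htt, mul_one]
      inv_mem' := by
        rintro a ⟨y, hy, ha⟩
        refine ⟨y⁻¹, inv_mem hy, ?_⟩
        rcases ha with rfl | rfl
        · exact Or.inl rfl
        · right; rw [mul_inv_rev, inv_eq_of_mul_eq_one_right htt, ((hc _ hy).symm.inv_right).eq] }
  have htH : t ∈ H := ⟨1, one_mem Y, Or.inr (one_mul t).symm⟩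
  have hYH : Y ≤ H := fun y hy => ⟨y, hy, Or.inl rfl⟩
  have hnot : ∀ y ∈ Y, ∀ n : ℕ, Odd n → (y * t) ^ n ≠ 1 := by
    intro y hy n ⟨j, hj⟩ e
    rw [(hc y hy).mul_pow, hj, pow_succ t, pow_mul t, pow_two, htt, one_pow, one_mul] at e
    exact htY (eq_inv_of_mul_eq_one_right e ▸ inv_mem (pow_mem hy _))
  have hsol : Group.IsSolvable H := by
    have hn : zpowers t ≤ normalizer (Y : Set X) := by
      rw [zpowers_le, mem_normalizer_iff]
      intro y
      constructor
      · intro hy; rw [← (hc y hy).eq, mul_inv_cancel_right]; exact hy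
      · intro hy
        have h' : Commute (t * y * t⁻¹) t := hc _ hy
        have e : t * (t * y * t⁻¹) * t⁻¹ = t * y * t⁻¹ := by rw [← h'.eq, mul_inv_cancel_right]
        have e' : y = t * y * t⁻¹ := (MulAut.conj t).injective (by simpa using e.symm)
        rwa [e']
    have hle : H ≤ Y ⊔ zpowers t := by
      rintro h ⟨y, hy, rfl | rfl⟩
      · exact mem_sup_left hy
      · exact mul_mem (mem_sup_left hy) (mem_sup_right (mem_zpowers t))
    haveI := Components.isSolvable_sup Y (zpowers t) hn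
    exact Components.isSolvable_mono hle
  have h2 : TwoPrime H := by
    refine ⟨2, p, Nat.prime_two, hp, fun r hr hd => ?_⟩
    haveI := Fact.mk hr
    obtain ⟨h0, ho⟩ := exists_prime_orderOf_dvd_card' r hd
    rw [← orderOf_coe] at ho
    obtain ⟨h, hh⟩ := h0
    obtain ⟨y, hy, he⟩ := hh
    change orderOf h = r at ho
    rcases eq_or_ne r 2 with h2 | h2
    · exact Or.inl h2
    rcases he with rfl | rfl
    · obtain ⟨k, hk⟩ := IsPGroup.iff_orderOf.1 hYp ⟨h, hy⟩
      rw [orderOf_mk, ho] at hk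
      exact Or.inr ((Nat.prime_dvd_prime_iff_eq hr hp).1 (hr.dvd_of_dvd_pow (dvd_of_eq hk)))
    · exact absurd (by rw [← ho, pow_orderOf_eq_one]) (hnot y hy r (hr.odd_of_ne_two h2))
  have hco := hX.coatom hsol h2 (fun e => ne_one_of_two ht ((eq_bot_iff_forall _).1 e t htH))
  have h1 : normalizer (H : Set X) ≤ Cz t := by
    intro g hg
    obtain ⟨y, hy, he⟩ := (mem_normalizer_iff.1 hg t).1 htH
    have ho := two_conj ht g
    rcases he with he | he
    · have := hodd y hy
      rw [← he, ho] at this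
      exact absurd this (by decide)
    · rw [mem_Cz', he]
      have h2 := inv_self (he ▸ ho)
      rw [mul_assoc, ← mul_assoc t, ← (hc _ hy).eq, mul_assoc, htt, mul_one, ← pow_two] at h2
      obtain ⟨j, hj⟩ := hodd y hy
      have hy1 := pow_orderOf_eq_one y
      rw [hj, pow_succ, pow_mul, h2, one_pow, one_mul] at hy1
      rw [hy1, one_mul]
  have h1' : normalizer (H : Set X) ≤ normalizer (Y : Set X) := by
    intro g hg
    refine mem_normalizer_iff.2 fun y => ⟨fun hy => ?_, fun hy => ?_⟩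
    · obtain ⟨z, hz, he | he⟩ := (mem_normalizer_iff.1 hg y).1 (hYH hy)
      · exact he ▸ hz
      · have hoy : orderOf (g * y * g⁻¹) = orderOf y :=
          orderOf_injective (MulAut.conj g).toMonoidHom (MulAut.conj g).injective y
        exact absurd (pow_orderOf_eq_one _) (he ▸ hnot z hz _ (he ▸ hoy.symm ▸ hodd y hy))
    · obtain ⟨z, hz, he | he⟩ := (mem_normalizer_iff.1 hg y).2 (hYH hy)
      · exact he ▸ hz
      · have hoy : orderOf (g * y * g⁻¹) = orderOf y :=
          orderOf_injective (MulAut.conj g).toMonoidHom (MulAut.conj g).injective y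
        exact absurd (pow_orderOf_eq_one y) (he ▸ hnot z hz _ (he ▸ hoy ▸ hodd _ hy))
  rcases hco.le_iff.1 h1 with e | e
  · exact absurd e (hX.Cz_ne_top ht)
  rcases hco.le_iff.1 h1' with e' | e'
  · exact absurd e' (hX.not_normal inferInstance hne)
  rw [e', e]

/-- The centraliser of an involution normalises the cyclic subgroups of odd order. -/
theorem Hyp.conj_odd {t : X} (ht : orderOf t = 2) {x : X} (hx : x ∈ Cz t) (ho : Odd (orderOf x))
    {g : X} (hg : g ∈ Cz t) : g * x * g⁻¹ ∈ zpowers x := by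
  suffices key : ∀ (n : ℕ) (x : X), orderOf x = n → x ∈ Cz t → Odd n → g * x * g⁻¹ ∈ zpowers x from
    key _ x rfl hx ho
  intro n
  induction n using Nat.recOnPosPrimePosCoprime with
  | prime_pow p k hp hk =>
    intro x hn hx hodd
    have hp2 : p ≠ 2 := by
      rintro rfl
      rw [Nat.odd_pow_iff hk.ne'] at hodd
      exact absurd hodd (by decide)
    have hne : zpowers x ≠ ⊥ := by
      rw [Ne, zpowers_eq_bot]
      rintro rfl
      rw [orderOf_one] at hn
      exact absurd hn.symm (Nat.one_lt_pow hk.ne' hp.one_lt).ne'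
    have h := hX.normalizer_eq ht hp hp2 (zpowers_le.2 hx) (isPGroup_zpowers hn) hne
    exact zpowers_conj_mem x (h ▸ hg)
  | zero => intro x hn; exact absurd hn (orderOf_pos x).ne'
  | one =>
    intro x hn _ _
    rw [orderOf_eq_one_iff.1 hn, mul_one, mul_inv_cancel]
    exact one_mem _
  | coprime a b ha hb hab iha ihb =>
    intro x hn hx hodd
    rw [Nat.odd_mul] at hodd
    have hb' : orderOf (x ^ b) = a := by
      rw [orderOf_pow' _ (by omega), hn, Nat.gcd_eq_right (dvd_mul_left b a), Nat.mul_div_cancel _ (by omega)]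
    have ha' : orderOf (x ^ a) = b := by
      rw [orderOf_pow' _ (by omega), hn, Nat.gcd_eq_right (dvd_mul_right a b), Nat.mul_div_cancel_left _ (by omega)]
    have h1 := iha _ hb' (pow_mem hx _) hodd.1
    have h2 := ihb _ ha' (pow_mem hx _) hodd.2
    obtain ⟨u, v, huv⟩ : ∃ u v : ℤ, (1 : ℤ) = a * u + b * v := by
      refine ⟨Int.gcdA a b, Int.gcdB a b, ?_⟩
      rw [← Int.gcd_eq_gcd_ab, Int.gcd_natCast_natCast, hab.gcd_eq_one]
      rfl
    have e : x = (x ^ a) ^ u * (x ^ b) ^ v := by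
      rw [← zpow_natCast x a, ← zpow_natCast x b, ← zpow_mul, ← zpow_mul, ← zpow_add, ← huv, zpow_one]
    have hza : zpowers (x ^ a) ≤ zpowers x := zpowers_le.2 (pow_mem (mem_zpowers x) a)
    have hzb : zpowers (x ^ b) ≤ zpowers x := zpowers_le.2 (pow_mem (mem_zpowers x) b)
    have e2 : g * x * g⁻¹ = (g * x ^ a * g⁻¹) ^ u * (g * x ^ b * g⁻¹) ^ v := by
      conv_lhs => rw [e]
      rw [conj_zpow, conj_zpow, conj_mul]
    rw [e2]
    exact mul_mem (zpow_mem (hza h2) u) (zpow_mem (hzb h1) v)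

/-- The elements of odd order of the centraliser of an involution. -/
def oddPart {t : X} (ht : orderOf t = 2) : Subgroup X where
  carrier := {x | x ∈ Cz t ∧ Odd (orderOf x)}
  one_mem' := ⟨one_mem _, by simp⟩
  mul_mem' := by
    rintro x y ⟨hx, hxo⟩ ⟨hy, hyo⟩
    refine ⟨mul_mem hx hy, ?_⟩
    have key : ∀ k : ℕ, (x * y) ^ k * (y ^ k)⁻¹ ∈ zpowers x := by
      intro k
      induction k with
      | zero => simp
      | succ k ih =>
        have h1 : y ^ k * x * (y ^ k)⁻¹ ∈ zpowers x := hX.conj_odd ht hx hxo (pow_mem hy k)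
        have e : (x * y) ^ (k + 1) * (y ^ (k + 1))⁻¹ =
            ((x * y) ^ k * (y ^ k)⁻¹) * (y ^ k * x * (y ^ k)⁻¹) := by
          rw [pow_succ, pow_succ]; group
        rw [e]
        exact mul_mem ih h1
    have h := key (orderOf y)
    rw [pow_orderOf_eq_one, inv_one, mul_one] at h
    obtain ⟨i, hi⟩ := h
    have h2 : ((x * y) ^ orderOf y) ^ orderOf x = 1 := by
      rw [← hi, ← zpow_natCast, ← zpow_mul, mul_comm, zpow_mul, zpow_natCast, pow_orderOf_eq_one, one_zpow]
    rw [← pow_mul] at h2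
    exact Odd.of_dvd_nat (hyo.mul hxo) (orderOf_dvd_of_pow_eq_one h2)
  inv_mem' := by
    rintro x ⟨hx, hxo⟩
    exact ⟨inv_mem hx, by rwa [orderOf_inv]⟩

theorem mem_oddPart {t : X} (ht : orderOf t = 2) {x : X} :
    x ∈ oddPart hX ht ↔ x ∈ Cz t ∧ Odd (orderOf x) := Iff.rfl

theorem odd_card_oddPart {t : X} (ht : orderOf t = 2) : Odd (Nat.card (oddPart hX ht)) := by
  rw [← Nat.not_even_iff_odd, even_iff_two_dvd]
  intro h
  haveI : Fact (Nat.Prime 2) := ⟨Nat.prime_two⟩
  obtain ⟨x, hx⟩ := exists_prime_orderOf_dvd_card' 2 h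
  rw [← orderOf_coe] at hx
  exact absurd x.2.2 (by rw [hx]; decide)

theorem commute_oddPart {t : X} (ht : orderOf t = 2) {x y : X} (hx : x ∈ oddPart hX ht)
    (hy : y ∈ oddPart hX ht) : Commute x y := by
  by_contra hna
  obtain ⟨Q, E, A, ⟨e⟩, -⟩ := S4211.result (G := oddPart hX ht)
    (fun h => hna (congrArg Subtype.val (h.is_comm.comm ⟨x, hx⟩ ⟨y, hy⟩))) fun H => by
      refine ⟨fun h hh g => ?_⟩
      obtain ⟨i, hi⟩ := hX.conj_odd ht h.2.1 h.2.2 g.2.1
      have : g * h * g⁻¹ = h ^ i := Subtype.ext (by simpa using hi.symm)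
      rw [this]
      exact zpow_mem hh i
  have h8 := Nat.card_congr e.toEquiv
  rw [Nat.card_eq_fintype_card (α := QuaternionGroup 2), QuaternionGroup.card] at h8
  have h2 : 2 ∣ Nat.card (oddPart hX ht) := (dvd_mul_right 2 4).trans (h8 ▸ card_subgroup_dvd_card Q)
  exact (Nat.not_even_iff_odd.2 (odd_card_oddPart hX ht)) (even_iff_two_dvd.2 h2)

theorem conj_oddPart {t : X} (ht : orderOf t = 2) {g x : X} (hg : g ∈ Cz t) (hx : x ∈ oddPart hX ht) :
    g * x * g⁻¹ ∈ oddPart hX ht :=
  ⟨mul_mem (mul_mem hg hx.1) (inv_mem hg), by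
    rw [show orderOf (g * x * g⁻¹) = orderOf x from
      orderOf_injective (MulAut.conj g).toMonoidHom (MulAut.conj g).injective x]
    exact hx.2⟩

/-- Every nontrivial subgroup of the odd part has the centraliser as its normaliser. -/
theorem normalizer_sub {t : X} (ht : orderOf t = 2) {Y : Subgroup X} (hY : Y ≤ oddPart hX ht) (hne : Y ≠ ⊥) :
    normalizer (Y : Set X) = Cz t := by
  have hsol : Group.IsSolvable Y := Group.isSolvable_of_comm fun a b =>
    Subtype.ext (commute_oddPart hX ht (hY a.2) (hY b.2)).eq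
  refine hX.eq_of_le ht (fun g hg => ?_) (hX.not_normal hsol hne)
  have key : ∀ h ∈ Cz t, ∀ y ∈ Y, h * y * h⁻¹ ∈ Y := fun h hh y hy => by
    obtain ⟨i, hi⟩ := hX.conj_odd ht (hY hy).1 (hY hy).2 hh
    exact hi ▸ zpow_mem hy i
  refine mem_normalizer_iff.2 fun y => ⟨key g hg y, fun hy => ?_⟩
  simpa [mul_assoc] using key g⁻¹ (inv_mem hg) _ hy

theorem centralizer_odd_le {t : X} (ht : orderOf t = 2) {x : X} (hx : x ∈ oddPart hX ht) (hx1 : x ≠ 1) :
    Cz x ≤ Cz t := by
  rw [← normalizer_sub hX ht (zpowers_le.2 hx) (by rwa [Ne, zpowers_eq_bot])]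
  refine le_trans (fun g hg => ?_) (centralizer_le_normalizer _)
  refine mem_centralizer_iff.2 fun y hy => ?_
  obtain ⟨k, rfl⟩ := mem_zpowers_iff.1 hy
  exact ((Commute.zpow_right (mem_Cz.1 hg : Commute g x) k).eq).symm

/-- An involution commuting with a nontrivial element of the odd part has the same centraliser. -/
theorem Cz_eq_of_commute {t w : X} (ht : orderOf t = 2) (hw : orderOf w = 2) {x : X}
    (hx : x ∈ oddPart hX ht) (hx1 : x ≠ 1) (hc : Commute x w) : Cz w = Cz t := by
  have hxw : x ∈ oddPart hX hw := ⟨mem_Cz.2 hc, hx.2⟩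
  rw [← normalizer_sub hX ht (zpowers_le.2 hx) (by rwa [Ne, zpowers_eq_bot]),
    ← normalizer_sub hX hw (zpowers_le.2 hxw) (by rwa [Ne, zpowers_eq_bot])]

/-- The other involutions of the centraliser invert the odd part. -/
theorem inverts {t u : X} (ht : orderOf t = 2) (hu : orderOf u = 2) (hut : u ∈ Cz t)
    (hne : Cz u ≠ Cz t) {x : X} (hx : x ∈ oddPart hX ht) : u * x * u⁻¹ = x⁻¹ := by
  have hy : (u * x * u⁻¹) * x ∈ oddPart hX ht := mul_mem (conj_oddPart hX ht hut hx) hx
  by_contra hcon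
  refine hne (Cz_eq_of_commute hX ht hu hy (fun e => hcon (eq_inv_of_mul_eq_one_left e)) ?_)
  have huu := inv_self hu
  have hui : u⁻¹ = u := inv_eq_of_mul_eq_one_right huu
  have hcm := (commute_oddPart hX ht (conj_oddPart hX ht hut hx) hx).eq
  rw [hui] at hcm ⊢
  show u * x * u * x * u = u * (u * x * u * x)
  calc u * x * u * x * u = u * x * (u * x * u) := by group
    _ = u * (x * (u * x * u)) := by group
    _ = u * (u * x * u * x) := by rw [← hcm]

/-- The centraliser of an involution is its own normaliser. -/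
theorem mem_Cz_of_conj {t g : X} (ht : orderOf t = 2) (h : Cz (g * t * g⁻¹) = Cz t) : g ∈ Cz t := by
  have hn : Cz t ≠ ⊥ := fun e => ne_one_of_two ht ((eq_bot_iff_forall _).1 e t (self_mem_Cz t))
  have hN : normalizer (Cz t : Set X) ≠ ⊤ := by
    intro e
    haveI := normalizer_eq_top_iff.1 e
    have hz : (center (Cz t)).map (Cz t).subtype = ⊥ := by
      by_contra hb
      haveI : Group.IsSolvable ↥(center (Cz t)) := Group.isSolvable_of_comm fun a b =>
        Subtype.ext (mem_center_iff.1 b.2 a.1)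
      have hs : Group.IsSolvable ↥((center (Cz t)).map (Cz t).subtype) :=
        Components.isSolvable_map (Cz t).subtype (center (Cz t))
      exact hX.not_normal hs hb (normalizer_eq_top_iff.2 inferInstance)
    exact ne_one_of_two ht ((eq_bot_iff_forall _).1 hz t
      ⟨⟨t, self_mem_Cz t⟩, mem_center_iff.2 fun g => Subtype.ext (mem_Cz.1 g.2), rfl⟩)
  refine (hX.eq_of_le ht le_normalizer hN).le ?_
  have e : ∀ a : X, g * a * g⁻¹ ∈ Cz (g * t * g⁻¹) ↔ a ∈ Cz t := fun a => by
    rw [mem_Cz, mem_Cz, show g * a * g⁻¹ * (g * t * g⁻¹) = g * (a * t) * g⁻¹ by group,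
      show g * t * g⁻¹ * (g * a * g⁻¹) = g * (t * a) * g⁻¹ by group, mul_left_inj, mul_right_inj]
  rw [h] at e
  exact mem_normalizer_iff.2 fun a => (e a).symm

end Cfsg.Agent.MaxNorm13
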