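import Cfsg.Agent.Lib.GW.Main
import Cfsg.Agent.Lib.GW.OneClass
import Cfsg.Agent.Lib.AlperinRankTwo.Simple
import Cfsg.Agent.Lib.Classical.TwoByTwo
import Cfsg.Agent.Lib.Classical.SL
import Cfsg.Agent.S1137
import Cfsg.Agent.S1138
import Cfsg.Agent.S1141

/-!
Facts used to exclude simple groups: quasi-dihedral and wreathed Sylow subgroups, the Sylow subgroup of
`PSU(3, 4)`, and `PSL(3, 4)`.
-/

set_option autoImplicit false
set_option linter.unusedSectionVars false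

namespace Cfsg.Agent.MaxNorm13

open Subgroup Matrix

universe u

/-- Every involution is a central commutator. -/
def CommInvol (P : Type u) [Group P] : Prop :=
  ∀ u : P, u ≠ 1 → u * u = 1 → u ∈ center P ∧ ∃ x y : P, x * y * x⁻¹ * y⁻¹ = u

/-- With a quasi-dihedral or wreathed Sylow subgroup, a centraliser of an involution is not a 2-group over
its core. -/
theorem not_two_group_mod_core {G : Type u} [Group G] [Finite G] [IsSimpleGroup G]
    (hG : ¬ IsMulCommutative G) (S : Sylow 2 G)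
    (hS : Cfsg.IsQuasiDihedral (S : Subgroup G) ∨ Cfsg.IsWreathed (S : Subgroup G)) (t : G)
    (ht : orderOf t = 2) :
    ¬ ∀ g : ↥(centralizer ({t} : Set G)), ∃ k : ℕ, g ^ 2 ^ k ∈ Cfsg.oddCore ↥(centralizer ({t} : Set G)) := by
  intro h
  have hG2 : ∀ H : Subgroup G, H.index ≠ 2 := by
    intro H hH
    haveI := normal_of_index_eq_two hH
    rcases (inferInstance : H.Normal).eq_bot_or_eq_top with e | e
    · rw [e, index_bot] at hH
      haveI : Fact (Nat.Prime 2) := ⟨Nat.prime_two⟩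
      haveI : IsCyclic G := isCyclic_of_prime_card (p := 2) hH
      exact hG ⟨⟨fun a b => (IsCyclic.commutative (α := G)).is_comm.comm a b⟩⟩
    · rw [e, index_top] at hH
      omega
  obtain ⟨F, i1, i2, hodd, ⟨e⟩⟩ := GW.centralizer_mod_core_sl_two GW.simpleDihedral S hS hG2 t ht
  set C := centralizer ({t} : Set G)
  have hp2 : IsPGroup 2 ↥(commutator (↥C ⧸ Cfsg.oddCore ↥C)) := by
    refine IsPGroup.to_subgroup (fun g => ?_) _
    induction g using QuotientGroup.induction_on with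
    | _ g =>
      obtain ⟨k, hk⟩ := h g
      exact ⟨k, by rw [← QuotientGroup.mk_pow]; exact (QuotientGroup.eq_one_iff _).2 hk⟩
  haveI : Fact (Nat.Prime 2) := ⟨Nat.prime_two⟩
  obtain ⟨n, hn⟩ := IsPGroup.iff_card.1 hp2
  rw [Nat.card_congr e.toEquiv, TwoByTwo.card_sl_two, Nat.card_eq_fintype_card] at hn
  obtain ⟨m, -, hm⟩ := (Nat.dvd_prime_pow Nat.prime_two).1 (Dvd.intro _ hn)
  have h2 := Fintype.one_lt_card (α := F)
  rcases Nat.eq_zero_or_pos m with rfl | hm0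
  · rw [hm, pow_zero] at h2; omega
  · rw [hm, Nat.odd_pow_iff hm0.ne'] at hodd
    exact absurd hodd (by decide)

theorem CommInvol.of_equiv {P Q : Type*} [Group P] [Group Q] (e : P ≃* Q)
    (h : ∀ u : Q, u ≠ 1 → u * u = 1 → u ∈ center Q ∧ ∃ x y : Q, x * y * x⁻¹ * y⁻¹ = u) :
    ∀ u : P, u ≠ 1 → u * u = 1 → u ∈ center P ∧ ∃ x y : P, x * y * x⁻¹ * y⁻¹ = u := by
  intro u hu hu2
  obtain ⟨hc, x, y, hxy⟩ := h (e u) (fun he => hu (e.injective (by rw [he, map_one]))) (by rw [← map_mul, hu2, map_one])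
  refine ⟨mem_center_iff.2 fun g => e.injective ?_, e.symm x, e.symm y, e.injective ?_⟩
  · rw [map_mul, map_mul]; exact mem_center_iff.1 hc (e g)
  · simp [hxy]

theorem commInvol_psu {F : Type} [Field F] [Fintype F] (hF : Fintype.card F = 16)
    (P : Sylow 2 (Cfsg.PSU 3 F 4)) : CommInvol ↥(P : Subgroup (Cfsg.PSU 3 F 4)) := by
  have h := S1141.result (n := 2) le_rfl (by rw [hF]; rfl) P
  obtain ⟨-, hc, hsuz⟩ := h
  obtain ⟨hinv, hsq⟩ := S1137.result hsuz
  obtain ⟨-, hcomm, -, -⟩ := S1138.result hsuz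
  obtain ⟨-, -, ⟨a, b, hab⟩, -, K, -, hK⟩ := hsuz
  intro u hu hu2
  refine ⟨((hinv u).1 ⟨hu, hu2⟩).1, ?_⟩
  set c := a * b * a⁻¹ * b⁻¹ with hcdef
  have hc1 : c ≠ 1 := fun e => hab (commutatorElement_eq_one_iff_mul_comm.1 (by rw [commutatorElement_def]; exact e))
  have hcz : c ∈ center ↥(P : Subgroup (Cfsg.PSU 3 F 4)) := by
    have := hcomm a⁻¹ b⁻¹
    simpa using this
  obtain ⟨k, hk, -⟩ := hK c u hc1 (hsq c hcz) hu hu2
  exact ⟨(k : MulAut _) a, (k : MulAut _) b, by rw [← hk, hcdef, map_mul, map_mul, map_mul, map_inv, map_inv]⟩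

/-- A Sylow 2-subgroup of `PSL(3, 4)` is not self-normalising. -/
theorem l34_sylow {F : Type} [Field F] [Fintype F] (hF : Fintype.card F = 4) :
    ∃ (P : Sylow 2 (Matrix.ProjectiveSpecialLinearGroup (Fin 3) F))
      (g : Matrix.ProjectiveSpecialLinearGroup (Fin 3) F),
      g ∈ normalizer ((P : Subgroup (Matrix.ProjectiveSpecialLinearGroup (Fin 3) F)) :
        Set (Matrix.ProjectiveSpecialLinearGroup (Fin 3) F)) ∧
      g ∉ (P : Subgroup (Matrix.ProjectiveSpecialLinearGroup (Fin 3) F)) := by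
  classical
  haveI : Fact (Nat.Prime 2) := ⟨Nat.prime_two⟩
  have hcard : Nat.card (Matrix.ProjectiveSpecialLinearGroup (Fin 3) F) = 20160 := by
    have h := ClassicalSL.card_psl_mul (ι := Fin 3) (F := F)
    rw [ClassicalSL.card_gl_fin (q := 4) (by rw [Nat.card_eq_fintype_card, hF]), Fintype.card_fin,
      Nat.card_eq_fintype_card (α := F), hF] at h
    norm_num [Fin.prod_univ_three] at h
    rw [Nat.card_eq_fintype_card]
    omega
  obtain ⟨d, hd0, hd1⟩ : ∃ d : F, d ≠ 0 ∧ d ≠ 1 := by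
    obtain ⟨d, hd⟩ := Finset.exists_mem_notMem_of_card_lt_card (s := ({0, 1} : Finset F)) (t := Finset.univ)
      (by rw [Finset.card_univ, hF]; exact lt_of_le_of_lt Finset.card_le_two (by norm_num))
    exact ⟨d, fun e => hd.2 (by simp [e]), fun e => hd.2 (by simp [e])⟩
  let mk : F × F × F → SpecialLinearGroup (Fin 3) F := fun v =>
    ⟨!![1, v.1, v.2.1; 0, 1, v.2.2; 0, 0, 1], by simp [Matrix.det_fin_three]⟩
  have hmul : ∀ v w, mk v * mk w = mk (v.1 + w.1, v.2.1 + w.2.1 + v.1 * w.2.2, v.2.2 + w.2.2) := fun v w => by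
    refine Subtype.ext ?_
    show !![1, v.1, v.2.1; 0, 1, v.2.2; 0, 0, 1] * !![1, w.1, w.2.1; 0, 1, w.2.2; 0, 0, 1] = _
    ext i j
    fin_cases i <;> fin_cases j <;> simp [mk, Matrix.mul_apply, Fin.sum_univ_three] <;> ring
  have hone : mk (0, 0, 0) = 1 := by
    refine Subtype.ext ?_
    ext i j
    fin_cases i <;> fin_cases j <;> simp [mk]
  let U : Subgroup (SpecialLinearGroup (Fin 3) F) :=
    { carrier := Set.range mk
      one_mem' := ⟨(0, 0, 0), hone⟩
      mul_mem' := by rintro _ _ ⟨v, rfl⟩ ⟨w, rfl⟩; exact ⟨_, (hmul v w).symm⟩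
      inv_mem' := by
        rintro _ ⟨v, rfl⟩
        refine ⟨(-v.1, -v.2.1 + v.1 * v.2.2, -v.2.2), (inv_eq_of_mul_eq_one_right ?_).symm⟩
        rw [hmul, ← hone]
        congr 1
        refine Prod.ext (by simp) (Prod.ext ?_ (by simp))
        simp }
  set π := QuotientGroup.mk' (Subgroup.center (SpecialLinearGroup (Fin 3) F))
  have hker : ∀ v, π (mk v) = 1 → v = (0, 0, 0) := by
    intro v hv
    obtain ⟨r, -, hr⟩ := Matrix.SpecialLinearGroup.mem_center_iff.1 ((QuotientGroup.eq_one_iff _).1 hv)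
    have hr' : ∀ i j, (Matrix.scalar (Fin 3) r) i j =
        (!![1, v.1, v.2.1; 0, 1, v.2.2; 0, 0, 1] : Matrix (Fin 3) (Fin 3) F) i j := fun i j =>
      congrFun (congrFun hr i) j
    refine Prod.ext ?_ (Prod.ext ?_ ?_)
    · simpa using (hr' 0 1).symm
    · simpa using (hr' 0 2).symm
    · simpa using (hr' 1 2).symm
  have hinj : ∀ v w, π (mk v) = π (mk w) → v = w := by
    intro v w e
    obtain ⟨x, hx⟩ := U.mul_mem (U.inv_mem ⟨v, rfl⟩) (⟨w, rfl⟩ : mk w ∈ U)
    have : π (mk x) = 1 := by rw [hx, map_mul, map_inv, e, inv_mul_cancel]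
    rw [hker x this, hone] at hx
    have hvw := inv_mul_eq_one.1 hx.symm
    have hv' : ∀ i j, (!![1, v.1, v.2.1; 0, 1, v.2.2; 0, 0, 1] : Matrix (Fin 3) (Fin 3) F) i j =
        (!![1, w.1, w.2.1; 0, 1, w.2.2; 0, 0, 1] : Matrix (Fin 3) (Fin 3) F) i j := fun i j =>
      congrFun (congrFun (congrArg Subtype.val hvw) i) j
    exact Prod.ext (by simpa using hv' 0 1) (Prod.ext (by simpa using hv' 0 2) (by simpa using hv' 1 2))
  set Q := U.map π with hQ
  have hQc : Nat.card Q = 64 := by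
    have hbij : Function.Bijective (fun v : F × F × F => (⟨π (mk v), mk v, ⟨v, rfl⟩, rfl⟩ : Q)) := by
      refine ⟨fun v w e => hinj v w (congrArg Subtype.val e), ?_⟩
      rintro ⟨_, _, ⟨v, rfl⟩, rfl⟩
      exact ⟨v, rfl⟩
    rw [← Nat.card_congr (Equiv.ofBijective _ hbij), Nat.card_eq_fintype_card, Fintype.card_prod, Fintype.card_prod, hF]
  have hQp : IsPGroup 2 Q := IsPGroup.of_card (n := 6) (by rw [hQc]; norm_num)
  obtain ⟨P, hP⟩ := hQp.exists_le_sylow
  have hPQ : Q = (P : Subgroup (Matrix.ProjectiveSpecialLinearGroup (Fin 3) F)) := by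
    refine eq_of_le_of_card_ge hP ?_
    rw [hQc, P.card_eq_multiplicity, hcard]
    have : (20160 : ℕ).factorization 2 = 6 := by
      rw [show (20160 : ℕ) = 2 ^ 6 * 315 by norm_num, Nat.factorization_mul (by norm_num) (by norm_num),
        Nat.prime_two.factorization_pow]
      simp [Nat.factorization_eq_zero_of_not_dvd]
    rw [this]
    norm_num
  let D : SpecialLinearGroup (Fin 3) F :=
    ⟨!![d, 0, 0; 0, d⁻¹, 0; 0, 0, 1], by simp [Matrix.det_fin_three, hd0]⟩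
  refine ⟨P, π D, ?_, fun hmem => ?_⟩
  · rw [← hPQ]
    have key : ∀ v, π D * π (mk v) * (π D)⁻¹ = π (mk (d * d * v.1, d * v.2.1, d⁻¹ * v.2.2)) := by
      intro v
      rw [mul_inv_eq_iff_eq_mul, ← map_mul, ← map_mul]
      congr 1
      refine Subtype.ext ?_
      show !![d, 0, 0; 0, d⁻¹, 0; 0, 0, 1] * !![1, v.1, v.2.1; 0, 1, v.2.2; 0, 0, 1] =
        !![1, d * d * v.1, d * v.2.1; 0, 1, d⁻¹ * v.2.2; 0, 0, 1] * !![d, 0, 0; 0, d⁻¹, 0; 0, 0, 1]
      ext i j
      fin_cases i <;> fin_cases j <;> simp [Matrix.mul_apply, Fin.sum_univ_three] <;> field_simp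
    refine mem_normalizer_iff.2 fun q => ⟨?_, fun hq => ?_⟩
    · rintro ⟨_, ⟨v, rfl⟩, rfl⟩
      rw [key]
      exact ⟨_, ⟨_, rfl⟩, rfl⟩
    · obtain ⟨_, ⟨v, rfl⟩, he⟩ := hq
      refine ⟨_, ⟨((d * d)⁻¹ * v.1, d⁻¹ * v.2.1, d * v.2.2), rfl⟩, ?_⟩
      refine (MulAut.conj (π D)).injective ?_
      simp only [MulAut.conj_apply]
      rw [key, ← he]
      congr 2
      refine Prod.ext ?_ (Prod.ext ?_ ?_) <;> simp [← mul_assoc, hd0]
  · rw [← hPQ] at hmem
    obtain ⟨_, ⟨v, rfl⟩, he⟩ := hmem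
    obtain ⟨r, -, hr⟩ := Matrix.SpecialLinearGroup.mem_center_iff.1 (QuotientGroup.eq.1 he)
    have e2 : (mk v : Matrix (Fin 3) (Fin 3) F) * Matrix.scalar (Fin 3) r = !![d, 0, 0; 0, d⁻¹, 0; 0, 0, 1] := by
      rw [hr, ← Matrix.SpecialLinearGroup.coe_mul, mul_inv_cancel_left]
    have h00 := congrFun (congrFun e2 0) 0
    have h22 := congrFun (congrFun e2 2) 2
    simp [mk, Matrix.mul_apply, Fin.sum_univ_three] at h00 h22
    exact hd1 (h00 ▸ h22)

end Cfsg.Agent.MaxNorm13
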