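import Cfsg.Agent.Lib.MaxNorm13.Quot
import Cfsg.Agent.Lib.GW.DoubleCover
import Cfsg.Agent.S0802
import Cfsg.Agent.S4211
import Mathlib.Algebra.Group.TransferInstance

/-!
The whole group is the product of the perfect residual and an abelian group of coprime order.
-/

set_option autoImplicit false
set_option linter.unusedSectionVars false

namespace Cfsg.Agent.MaxNorm13

open Subgroup

universe u

local notation "P13" => Matrix.ProjectiveSpecialLinearGroup (Fin 2) (ZMod 13)

variable {G : Type u} [Group G] [Finite G]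

theorem isPGroup_of_four {H : Subgroup G} (h : ∀ a ∈ H, ∃ k : ℕ, a ^ 2 ^ k = 1) : IsPGroup 2 H := fun a => by
  obtain ⟨k, hk⟩ := h a a.2
  exact ⟨k, Subtype.ext (by simpa using hk)⟩

theorem z13 : ¬ (1 : ZMod 13) = -1 ∧ (2 : ZMod 13) ≠ 0 ∧ ¬ ((3 : ℕ) : ZMod 13) = 0 ∧ (2 : ZMod 13) ^ 2 ≠ 1 := by
  decide

theorem exists_conj_power : haveI : Fact (Nat.Prime 13) := ⟨by norm_num⟩
    ∀ r : ℕ, r = 3 ∨ r = 7 ∨ r = 13 → ∃ (x k : P13) (j : ℤ), orderOf x = r ∧ k * x * k⁻¹ = x ^ j ∧
      x ^ j ≠ x := by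
  haveI : Fact (Nat.Prime 13) := ⟨by norm_num⟩
  intro r hr
  have hd : ∀ (n : ℕ) [NeZero n] (H : Subgroup P13), H ≃* DihedralGroup n → ∀ m : ℕ, orderOf
      ((DihedralGroup.r 1 : DihedralGroup n) ^ m) = r → r ≠ 2 → r ≠ 1 →
      ∃ (x k : P13) (j : ℤ), orderOf x = r ∧ k * x * k⁻¹ = x ^ j ∧ x ^ j ≠ x := by
    intro n _ H d m hm h2 h1
    set f : DihedralGroup n →* P13 := H.subtype.comp d.symm.toMonoidHom
    have hf : Function.Injective f := H.subtype_injective.comp d.symm.injective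
    refine ⟨f (DihedralGroup.r 1 ^ m), f (DihedralGroup.sr 0), -1, ?_, ?_, fun h => ?_⟩
    · rw [orderOf_injective f hf, hm]
    · rw [zpow_neg_one, ← map_inv, ← map_mul, ← map_mul, ← map_inv, DihedralGroup.r_one_pow,
        DihedralGroup.inv_sr, DihedralGroup.inv_r, DihedralGroup.sr_mul_r, DihedralGroup.sr_mul_sr]
      simp
    · rw [zpow_neg_one, ← map_inv] at h
      have h' := hf h
      have : (DihedralGroup.r 1 : DihedralGroup n) ^ m * DihedralGroup.r 1 ^ m = 1 :=
        (congrArg (· * DihedralGroup.r 1 ^ m) h').symm.trans (inv_mul_cancel _)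
      rw [← pow_two, ← orderOf_dvd_iff_pow_eq_one, hm] at this
      rcases (Nat.dvd_prime Nat.prime_two).1 this with e | e
      · exact h1 e
      · exact h2 e
  rcases hr with rfl | rfl | rfl
  · obtain ⟨H, -, ⟨d⟩⟩ := S0812.result (q := 13) (ZMod.card 13) (by decide)
    refine hd 6 H d 2 ?_ (by norm_num) (by norm_num)
    rw [orderOf_pow' _ (by norm_num), DihedralGroup.orderOf_r_one]
    rfl
  · obtain ⟨H, -, ⟨d⟩⟩ := S0811.result (q := 13) (ZMod.card 13) (by decide)
    refine hd 7 H d 1 ?_ (by norm_num) (by norm_num)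
    rw [pow_one, DihedralGroup.orderOf_r_one]
  · set π := PSL2Inv.pr (F := ZMod 13)
    have hk : ∀ k : ℕ, PStable.upp (1 : ZMod 13) ^ k = PStable.upp (k : ZMod 13) := by
      intro k
      induction k with
      | zero => simp [PStable.upp_zero]
      | succ k ih => rw [pow_succ, ih, PStable.upp_mul, Nat.cast_succ]
    have hupp : ∀ {a : ZMod 13}, π (PStable.upp a) = 1 → a = 0 := by
      intro a h
      rcases PSL2Inv.pr_eq_one_iff.1 h with h | h
      · exact PStable.upp_injective (h.trans PStable.upp_zero.symm)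
      · have h0 := congrArg (fun Z : Matrix.SpecialLinearGroup (Fin 2) (ZMod 13) =>
          (Z : Matrix (Fin 2) (Fin 2) (ZMod 13)) 0 0) h
        simp [PStable.upp_val, SL2Inv.coe_negOne] at h0
        exact absurd h0 z13.1
    refine ⟨π (PStable.upp 1), π (PSL2Binary.dg (Units.mk0 2 z13.2.1)), 4, ?_, ?_, fun h => ?_⟩
    · refine orderOf_eq_prime ?_ fun h => one_ne_zero (hupp h)
      rw [← map_pow, hk, show ((13 : ℕ) : ZMod 13) = 0 from rfl, PStable.upp_zero, map_one]
    · rw [← map_inv, ← map_mul, ← map_mul, PSL2Binary.dg_conj_upp, show (4 : ℤ) = ((4 : ℕ) : ℤ) from rfl,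
        zpow_natCast, ← map_pow, hk]
      congr 2
    · rw [show (4 : ℤ) = ((3 + 1 : ℕ) : ℤ) from rfl, zpow_natCast, pow_succ, mul_eq_right, ← map_pow, hk] at h
      exact absurd (hupp h) z13.2.2.1

section Lift

variable {X : Type u} [Group X] [Finite X] {π : G →* X}

/-- A non-subnormal subgroup with at most two primes has the preimage of the normaliser of its image as normaliser. -/
theorem lift_normalizer (hG : MaxNorm G) (hπ : Function.Surjective π) [IsSimpleGroup X]
    (hns : ¬ Group.IsSolvable X) {H : Subgroup G} (hs : Group.IsSolvable H) (h2 : TwoPrime H)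
    (hne : H.map π ≠ ⊥) {g : G} (hg : π g ∈ normalizer (H.map π : Set X)) :
    g ∈ normalizer (H : Set G) := by
  haveI := hs
  have htop : H.map π ≠ ⊤ := fun e => hns (by
    haveI : Group.IsSolvable ↥(H.map π) := Components.isSolvable_map π H
    rw [e] at this
    exact (Components.isSolvable_congr Subgroup.topEquiv).1 this)
  have hsn : ¬ H.IsSubnormal := fun h =>
    (IsSubnormal.eq_bot_or_top_of_isSimpleGroup inferInstance (h.map hπ)).elim hne htop
  have hne' : normalizer (H.map π : Set X) ≠ ⊤ := fun e =>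
    ((normalizer_eq_top_iff.1 e).eq_bot_or_eq_top).elim hne htop
  have hle : normalizer (H : Set G) ≤ (normalizer (H.map π : Set X)).comap π := by
    intro a ha
    rw [mem_comap]
    refine mem_normalizer_fintype ?_
    rintro _ ⟨b, hb, rfl⟩
    exact ⟨a * b * a⁻¹, (mem_normalizer_iff.1 ha b).1 hb, by rw [map_mul, map_mul, map_inv]⟩
  rw [← ((hG H hsn h2).le_iff.1 hle).resolve_left fun e => hne' (by
    rw [← map_comap_eq_self_of_surjective hπ (normalizer (H.map π : Set X)), e, map_top_of_surjective π hπ])]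
  exact hg

theorem commute_of_prime_power (hG : MaxNorm G) (hπ : Function.Surjective π) [IsSimpleGroup X]
    (hns : ¬ Group.IsSolvable X) {r a : ℕ} (hr : r.Prime) {x s : G} (hx : orderOf x = r ^ a) (hx1 : π x ≠ 1)
    (hs : π s = 1) (hrs : ¬ r ∣ orderOf s) : Commute s x := by
  have hn : s ∈ normalizer (zpowers x : Set G) := by
    refine lift_normalizer hG hπ hns inferInstance ⟨r, r, hr, hr, fun q hq hd => ?_⟩ ?_ (by rw [hs]; exact one_mem _)
    · rw [Nat.card_zpowers, hx] at hd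
      exact Or.inl ((Nat.prime_dvd_prime_iff_eq hq hr).1 (hq.dvd_of_dvd_pow hd))
    · rw [MonoidHom.map_zpowers, Ne, zpowers_eq_bot]; exact hx1
  obtain ⟨i, hi⟩ := mem_zpowers_iff.1 (zpowers_conj_mem x hn)
  have hπi : (π x) ^ (i - 1) = 1 := by
    have := congrArg π hi
    rw [map_zpow, map_mul, map_mul, map_inv, hs, one_mul, inv_one, mul_one] at this
    rw [zpow_sub, zpow_one, this, mul_inv_cancel]
  have hri : (r : ℤ) ∣ i - 1 := by
    obtain ⟨c, -, hc⟩ := (Nat.dvd_prime_pow hr).1 (hx ▸ orderOf_map_dvd π x)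
    have hc0 : c ≠ 0 := fun h => hx1 (orderOf_eq_one_iff.1 (by rw [hc, h, pow_zero]))
    exact (Int.natCast_dvd_natCast.2 (hc ▸ dvd_pow_self r hc0)).trans (orderOf_dvd_iff_zpow_eq_one.2 hπi)
  have hiter : ∀ k : ℕ, s ^ k * x * (s ^ k)⁻¹ = x ^ i ^ k := by
    intro k
    induction k with
    | zero => simp
    | succ k ih =>
      rw [pow_succ', show s * s ^ k * x * (s * s ^ k)⁻¹ = s * (s ^ k * x * (s ^ k)⁻¹) * s⁻¹ by group, ih,
        ← conj_zpow, ← hi, ← zpow_mul, pow_succ']
  have hdvd : (r : ℤ) ^ a ∣ i ^ orderOf s - 1 := by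
    have h := hiter (orderOf s)
    rw [pow_orderOf_eq_one, one_mul, inv_one, mul_one] at h
    have h2 : x ^ (i ^ orderOf s - 1) = 1 := by rw [zpow_sub, zpow_one, ← h, mul_inv_cancel]
    rw [← orderOf_dvd_iff_zpow_eq_one, hx] at h2
    exact_mod_cast h2
  rw [← geom_sum_mul] at hdvd
  have hcop : IsCoprime ((r : ℤ) ^ a) (∑ j ∈ Finset.range (orderOf s), i ^ j) := by
    refine IsCoprime.pow_left ((Nat.prime_iff_prime_int.1 hr).coprime_iff_not_dvd.2 fun hd => hrs ?_)
    haveI := Fact.mk hr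
    rw [← ZMod.intCast_zmod_eq_zero_iff_dvd] at hd hri
    push_cast at hd hri
    rw [sub_eq_zero.1 hri] at hd
    simp at hd
    exact (ZMod.natCast_eq_zero_iff _ _).1 hd
  have hx1' := hcop.dvd_of_dvd_mul_left hdvd
  rw [← Nat.cast_pow, ← hx, orderOf_dvd_iff_zpow_eq_one, zpow_sub, zpow_one, mul_inv_eq_one, hi] at hx1'
  show s * x = x * s
  exact mul_inv_eq_iff_eq_mul.1 hx1'

end Lift

theorem exists_residual {X : Type u} [Group X] [Finite X] {π : G →* X} (hπ : Function.Surjective π)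
    (hX : ⁅(⊤ : Subgroup X), (⊤ : Subgroup X)⁆ = ⊤) :
    ∃ K : Subgroup G, K.Normal ∧ K.map π = ⊤ ∧ ⁅K, K⁆ = K ∧ ∀ L : Subgroup G, L.Normal → L.map π = ⊤ → K ≤ L := by
  obtain ⟨K, ⟨hKn, hK⟩, hmin⟩ := Set.Finite.exists_minimal (s := {L : Subgroup G | L.Normal ∧ L.map π = ⊤})
    (Set.toFinite _) ⟨⊤, inferInstance, map_top_of_surjective π hπ⟩
  haveI := hKn
  refine ⟨K, hKn, hK, le_antisymm (commutator_le_left K K) (hmin ⟨inferInstance, ?_⟩ (commutator_le_left K K)),
    fun L hL hLt => ?_⟩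
  · rw [map_commutator, hK, hX]
  · haveI := hL
    exact (hmin ⟨inferInstance, by rw [map_commutator, hK, hLt, hX]⟩ (commutator_le_left K L)).trans
      (commutator_le_right K L)

/-- The structure of the group. -/
theorem structure_theorem (hns : ¬ Group.IsSolvable G) (hG : MaxNorm G) :
    ∃ K S : Subgroup G, K.Normal ∧ S.Normal ∧ K ⊓ S = ⊥ ∧ K ⊔ S = ⊤ ∧
      (Nonempty (K ≃* P13) ∨ Nonempty (K ≃* Matrix.SpecialLinearGroup (Fin 2) (ZMod 13))) ∧
      IsMulCommutative S ∧ (Nat.card K).Coprime (Nat.card S) := by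
  classical
  haveI : Fact (Nat.Prime 13) := ⟨by norm_num⟩
  haveI : Fact (Nat.Prime 2) := ⟨Nat.prime_two⟩
  haveI hRn := Components.solvRadical_normal (G := G)
  haveI hRs := Components.solvRadical_solvable (G := G)
  set R := Components.solvRadical G with hR
  set π := QuotientGroup.mk' R
  have hπ : Function.Surjective π := QuotientGroup.mk'_surjective R
  have hker : π.ker = R := QuotientGroup.ker_mk' R
  have hmem : ∀ {g : G}, π g = 1 ↔ g ∈ R := fun {g} => QuotientGroup.eq_one_iff g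
  have hX : Hyp (G ⧸ R) := ⟨solvRadical_eq_bot π hπ hker, maxNorm_map π hπ hker.le hG⟩
  haveI : Nontrivial (G ⧸ R) := by
    refine QuotientGroup.nontrivial_iff.2 fun e => hns ?_
    haveI : Group.IsSolvable ↥(⊤ : Subgroup G) := e ▸ hRs
    exact (Components.isSolvable_congr Subgroup.topEquiv).1 inferInstance
  obtain ⟨S0, hS0⟩ := exists_socle hX
  obtain ⟨e⟩ := equiv_psl hX hS0
  have hperfQ : commutator P13 = ⊤ := by
    have hperf : commutator (Matrix.SpecialLinearGroup (Fin 2) (ZMod 13)) = ⊤ :=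
      Matrix.SL2.commutator_eq_top (a := (2 : ZMod 13)) z13.2.1 z13.2.2.2
    have h := congrArg (Subgroup.map (PSL2Inv.pr (F := ZMod 13))) hperf
    rw [_root_.commutator_def, map_commutator, map_top_of_surjective _ PSL2Inv.pr_surjective] at h
    exact h
  have hperfX : ⁅(⊤ : Subgroup (G ⧸ R)), (⊤ : Subgroup (G ⧸ R))⁆ = ⊤ := by
    have h := congrArg (Subgroup.map e.symm.toMonoidHom) hperfQ
    rw [_root_.commutator_def, map_commutator, map_top_of_surjective e.symm.toMonoidHom e.symm.surjective] at h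
    exact h
  have hnsX : ¬ Group.IsSolvable (G ⧸ R) := fun h => by
    have := Components.le_solvRadical (G := G ⧸ R) (N := ⊤) inferInstance
      ((Components.isSolvable_congr Subgroup.topEquiv).2 h)
    rw [hX.rad] at this
    exact top_ne_bot (le_bot_iff.1 this)
  haveI : IsSimpleGroup (G ⧸ R) := by
    refine ⟨fun N hN => or_iff_not_imp_left.2 fun hne => ?_⟩
    haveI : IsSimpleGroup P13 :=
      Matrix.ProjectiveSpecialLinearGroup.rank_two_simple (by rw [Nat.card_zmod]; norm_num)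
    haveI := e.isSimpleGroup
    exact hN.eq_bot_or_eq_top.resolve_left hne
  obtain ⟨K, hKn, hKt, hKp, hKmin⟩ := exists_residual hπ hperfX
  haveI := hKn
  have hKlift : ∀ q : G ⧸ R, ∃ k ∈ K, π k = q := fun q => by
    have h : q ∈ K.map π := hKt ▸ mem_top q
    exact h
  have hcardX : Nat.card (G ⧸ R) = 1092 := by
    have := Dickson.gcd_mul_card_psl (K := ZMod 13)
    rw [Nat.card_zmod, show Nat.gcd 2 (13 - 1) = 2 from rfl] at this
    rw [Nat.card_congr e.toEquiv]
    omega
  -- the radical centralises the residual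
  have hcent : ∀ r : ℕ, r.Prime → r ∣ 1092 → ∀ s ∈ R, ¬ r ∣ orderOf s → ∀ k ∈ K, Commute k s := by
    intro r hr hr1092 s hs hrs k hk
    haveI := Fact.mk hr
    let L : Subgroup G := normalClosure {x : G | ∃ a : ℕ, orderOf x = r ^ a ∧ π x ≠ 1}
    have hL : L ≤ centralizer ({s} : Set G) := by
      refine (closure_le _).2 fun y hy => ?_
      obtain ⟨x, ⟨a, hxa, hx1⟩, hc⟩ := Group.mem_conjugatesOfSet_iff.1 hy
      obtain ⟨c, rfl⟩ := isConj_iff.1 hc
      refine mem_centralizer_singleton_iff.2 (commute_of_prime_power hG hπ hnsX hr (a := a) ?_ ?_ (hmem.2 hs) hrs).eq.symm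
      · rw [← hxa]; exact orderOf_injective (MulAut.conj c).toMonoidHom (MulAut.conj c).injective x
      · rw [map_mul, map_mul, map_inv]
        exact fun h => hx1 (conj_eq_one_iff.1 h)
    obtain ⟨q, hq⟩ := exists_prime_orderOf_dvd_card' (G := G ⧸ R) r (hcardX ▸ hr1092)
    obtain ⟨g, rfl⟩ := hπ q
    obtain ⟨a, m, hm, hgm⟩ := Nat.exists_eq_pow_mul_and_not_dvd (orderOf_pos g).ne' r hr.ne_one
    have hgL : g ^ m ∈ L := subset_normalClosure ⟨a, by
      rw [orderOf_pow, hgm, Nat.gcd_eq_right (dvd_mul_left m _), Nat.mul_div_cancel _ (Nat.pos_of_ne_zero fun h => hm (by rw [h]; exact dvd_zero r))],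
      fun h => hm (by rw [map_pow, ← orderOf_dvd_iff_pow_eq_one, hq] at h; exact h)⟩
    have hLn : L.Normal := normalClosure_normal
    have hLt : L.map π = ⊤ := by
      haveI := hLn.map π hπ
      refine (inferInstance : (L.map π).Normal).eq_bot_or_eq_top.resolve_left fun h => hm ?_
      have := (eq_bot_iff_forall _).1 h _ (mem_map_of_mem π hgL)
      rw [map_pow, ← orderOf_dvd_iff_pow_eq_one, hq] at this
      exact this
    exact mem_centralizer_singleton_iff.1 (hL (hKmin L hLn hLt hk))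
  have hRK : ∀ s ∈ R, ∀ k ∈ K, Commute k s := by
    intro s hs k hk
    obtain ⟨a, l, hl, hsl⟩ := Nat.exists_eq_two_pow_mul_odd (orderOf_pos s).ne'
    have hcop : (2 ^ a).Coprime l := (Nat.coprime_two_left.2 hl).pow_left a
    obtain ⟨i, j, hij⟩ : ∃ i j : ℤ, (1 : ℤ) = (2 ^ a : ℕ) * i + (l : ℕ) * j := by
      refine ⟨Int.gcdA (2 ^ a : ℕ) l, Int.gcdB (2 ^ a : ℕ) l, ?_⟩
      rw [← Int.gcd_eq_gcd_ab, Int.gcd_natCast_natCast, hcop.gcd_eq_one]
      rfl
    have h1 : Commute k (s ^ 2 ^ a) := by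
      refine hcent 2 Nat.prime_two (by norm_num) _ (pow_mem hs _) (fun hd => ?_) k hk
      have : orderOf (s ^ 2 ^ a) ∣ l := orderOf_dvd_of_pow_eq_one (by rw [← pow_mul, ← hsl, pow_orderOf_eq_one])
      exact Nat.not_even_iff_odd.2 hl (even_iff_two_dvd.2 (hd.trans this))
    have h2 : Commute k (s ^ l) := by
      refine hcent 3 Nat.prime_three (by norm_num) _ (pow_mem hs _) (fun hd => ?_) k hk
      have : orderOf (s ^ l) ∣ 2 ^ a :=
        orderOf_dvd_of_pow_eq_one (by rw [← pow_mul, mul_comm, ← hsl, pow_orderOf_eq_one])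
      exact absurd ((Nat.prime_dvd_prime_iff_eq Nat.prime_three Nat.prime_two).1
        (Nat.prime_three.dvd_of_dvd_pow (hd.trans this))) (by norm_num)
    rw [← zpow_one s, hij, zpow_add, zpow_mul, zpow_mul, zpow_natCast, zpow_natCast]
    exact (h1.zpow_right i).mul_right (h2.zpow_right j)
  -- the residual
  set σ : K →* P13 := e.toMonoidHom.comp (π.comp K.subtype) with hσ
  have hσs : Function.Surjective σ := fun q => by
    obtain ⟨k, hk, hkq⟩ := hKlift (e.symm q)
    exact ⟨⟨k, hk⟩, by simp [hσ, hkq]⟩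
  have hKperf : commutator K = ⊤ := by
    refine map_injective K.subtype_injective ?_
    rw [_root_.commutator_def, map_commutator, ← MonoidHom.range_eq_map, range_subtype, hKp]
  have hσker : σ.ker = center K := by
    ext ⟨k, hk⟩
    rw [MonoidHom.mem_ker]
    constructor
    · intro h
      have hkR : k ∈ R := hmem.1 (e.map_eq_one_iff.1 h)
      exact mem_center_iff.2 fun g => Subtype.ext (hRK k hkR g g.2).eq
    · intro h
      have hc : σ ⟨k, hk⟩ ∈ center P13 := mem_center_iff.2 fun q => by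
        obtain ⟨g, rfl⟩ := hσs q
        rw [← map_mul, ← map_mul, mem_center_iff.1 h g]
      haveI : IsSimpleGroup P13 := (MulEquiv.isSimpleGroup e.symm)
      rcases (inferInstance : (center P13).Normal).eq_bot_or_eq_top with h' | h'
      · rw [h'] at hc; exact hc
      · exact absurd h' (fun h' => hnsX ((Components.isSolvable_congr e).2 (Group.isSolvable_of_comm fun a b =>
          mem_center_iff.1 (h' ▸ mem_top b) a)))
  have hZle : Nat.card (center K) ≤ 2 := by
    obtain ⟨K0, _, _, ⟨e0⟩⟩ := Finite.exists_type_univ_nonempty_mulEquiv.{u, 0} K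
    set σ0 : K0 →* P13 := σ.comp e0.symm.toMonoidHom
    have hk0 : σ0.ker = (center K).map e0.toMonoidHom := by
      ext x
      rw [mem_map_equiv, ← hσker, MonoidHom.mem_ker, MonoidHom.mem_ker]
      rfl
    have hst : Cfsg.IsStemExtension σ0 := by
      refine ⟨hσs.comp e0.symm.surjective, ?_, ?_⟩
      · rw [hk0]
        rintro _ ⟨k, hk, rfl⟩
        refine mem_center_iff.2 fun g => e0.symm.injective ?_
        simpa using mem_center_iff.1 hk (e0.symm g)
      · have := congrArg (Subgroup.map e0.toMonoidHom) hKperf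
        rw [_root_.commutator_def, map_commutator, map_top_of_surjective e0.toMonoidHom e0.surjective] at this
        rw [_root_.commutator_def, this]
        exact le_top
    obtain ⟨p, hp⟩ := (S2086.result (F := ZMod 13) (q := 13) (ZMod.card 13) 2 le_rfl (fun _ => by norm_num)
      (by simp)).2 K0 σ0 hst
    calc Nat.card (center K) = Nat.card σ0.ker := by rw [hk0, card_map_of_injective e0.injective]
      _ ≤ Nat.card (Multiplicative (ZMod (Nat.gcd 2 (13 - 1)))) := Nat.card_le_card_of_surjective p hp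
      _ = 2 := by rw [Nat.card_congr Multiplicative.toAdd, Nat.card_zmod]; rfl
  have hiso : Nonempty (K ≃* P13) ∨ Nonempty (K ≃* Matrix.SpecialLinearGroup (Fin 2) (ZMod 13)) := by
    rcases Nat.lt_or_ge (Nat.card (center K)) 2 with h | h
    · left
      have h1 : σ.ker = ⊥ := by
        rw [hσker]; exact card_eq_one.1 (by have := Nat.card_pos (α := center K); omega)
      exact ⟨MulEquiv.ofBijective σ ⟨(MonoidHom.ker_eq_bot_iff σ).1 h1, hσs⟩⟩
    · exact Or.inr (GW.sl2_cover hKperf (le_antisymm hZle h) (by rw [ZMod.card]; decide) (by rw [ZMod.card]; norm_num)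
        ((QuotientGroup.quotientMulEquivOfEq hσker.symm).trans (QuotientGroup.quotientKerEquivOfSurjective σ hσs)))
  set Z : Subgroup G := K ⊓ R with hZ
  have hZsq : ∀ z ∈ Z, z * z = 1 := by
    intro z hz
    have hzc : (⟨z, hz.1⟩ : K) ∈ center K := by
      rw [← hσker, MonoidHom.mem_ker]
      show e (π z) = 1
      rw [hmem.2 hz.2, map_one]
    have hd : orderOf (⟨⟨z, hz.1⟩, hzc⟩ : center K) ∣ 2 := by
      have h1 := orderOf_dvd_natCard (⟨⟨z, hz.1⟩, hzc⟩ : center K)
      have h0 := Nat.card_pos (α := center K)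
      rcases (show Nat.card (center K) = 1 ∨ Nat.card (center K) = 2 by omega) with h2 | h2 <;> rw [h2] at h1
      · exact h1.trans (one_dvd 2)
      · exact h1
    have := congrArg (fun a : center K => ((a : K) : G)) (orderOf_dvd_iff_pow_eq_one.1 hd)
    simpa [pow_two] using this
  -- no odd prime of the quotient divides the radical
  have hodd : ∀ r : ℕ, r = 3 ∨ r = 7 ∨ r = 13 → ¬ r ∣ Nat.card R := by
    intro r hr hd
    have hrp : r.Prime := by rcases hr with rfl | rfl | rfl <;> norm_num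
    have hr2 : ¬ r ∣ 2 := by rcases hr with rfl | rfl | rfl <;> norm_num
    haveI := Fact.mk hrp
    obtain ⟨⟨y, hyR⟩, hy⟩ := exists_prime_orderOf_dvd_card' (G := R) r hd
    rw [orderOf_mk] at hy
    obtain ⟨xq, kq, j, hxq, hkq, hxj⟩ := exists_conj_power r hr
    obtain ⟨x0, hx0, hx0q⟩ := hKlift (e.symm xq)
    obtain ⟨k, hk, hkq'⟩ := hKlift (e.symm kq)
    set x := x0 * x0 with hxdef
    have hxK : x ∈ K := mul_mem hx0 hx0
    have hπx : π x = e.symm (xq ^ 2) := by rw [hxdef, map_mul, hx0q, pow_two, map_mul]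
    have hxr : x ^ r = 1 := by
      have hz : x0 ^ r ∈ Z := ⟨pow_mem hx0 r, hmem.1 (by
        rw [map_pow, hx0q, ← map_pow, ← hxq, pow_orderOf_eq_one, map_one])⟩
      rw [hxdef, (Commute.refl x0).mul_pow, hZsq _ hz]
    have hx1 : π x ≠ 1 := by
      rw [hπx, Ne, MulEquiv.map_eq_one_iff, ← orderOf_dvd_iff_pow_eq_one, hxq]
      exact hr2
    have hxo : orderOf x = r := orderOf_eq_prime hxr fun h => hx1 (by rw [h, map_one])
    have hxy : Commute x y := hRK y hyR x hxK
    set H := zpowers (x * y) with hH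
    have hn : k ∈ normalizer (H : Set G) := by
      refine lift_normalizer hG hπ hnsX inferInstance ⟨r, r, hrp, hrp, fun q hq hd => ?_⟩ ?_ ?_
      · rw [hH, Nat.card_zpowers] at hd
        have : orderOf (x * y) ∣ r := orderOf_dvd_of_pow_eq_one (by
          rw [hxy.mul_pow, hxr, ← hy, pow_orderOf_eq_one, one_mul])
        exact Or.inl ((Nat.prime_dvd_prime_iff_eq hq hrp).1 (hd.trans this))
      · rw [hH, MonoidHom.map_zpowers, Ne, zpowers_eq_bot, map_mul, hmem.2 hyR, mul_one]
        exact hx1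
      · rw [hH, MonoidHom.map_zpowers, map_mul, hmem.2 hyR, mul_one]
        refine mem_normalizer_zpowers (mem_zpowers_iff.2 ⟨j, ?_⟩)
        rw [hπx, hkq', ← map_inv, ← map_mul, ← map_mul, ← map_zpow, ← conj_pow, hkq, ← zpow_natCast,
          ← zpow_mul, ← zpow_natCast, ← zpow_mul, mul_comm]
    obtain ⟨i, hi⟩ := mem_zpowers_iff.1 (zpowers_conj_mem (x * y) hn)
    rw [hxy.mul_zpow, show k * (x * y) * k⁻¹ = (k * x * k⁻¹) * (k * y * k⁻¹) by group,
      (hRK y hyR k hk).eq, mul_inv_cancel_right] at hi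
    have hyi : y ^ (i - 1) ∈ Z := by
      have : y ^ (i - 1) = (x ^ i)⁻¹ * (k * x * k⁻¹) := by
        rw [zpow_sub, zpow_one, eq_inv_mul_iff_mul_eq, ← mul_assoc, hi, mul_inv_cancel_right]
      exact ⟨this ▸ K.mul_mem (K.inv_mem (zpow_mem hxK i)) (K.mul_mem (K.mul_mem hk hxK) (K.inv_mem hk)),
        zpow_mem hyR _⟩
    have hri : (r : ℤ) ∣ i - 1 := by
      have h := hZsq _ hyi
      rw [← zpow_add, ← orderOf_dvd_iff_zpow_eq_one, hy, ← two_mul] at h
      exact ((Nat.prime_iff_prime_int.1 hrp).dvd_or_dvd h).resolve_left fun h => hr2 (by exact_mod_cast h)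
    obtain ⟨c, hc⟩ := hri
    rw [show i = (r : ℤ) * c + 1 by omega, zpow_add, zpow_add, zpow_mul, zpow_mul, zpow_natCast, zpow_natCast,
      hxr, one_zpow, one_mul, zpow_one, ← hy, pow_orderOf_eq_one, one_zpow, one_mul, zpow_one] at hi
    have h := congrArg π (mul_right_cancel hi)
    rw [map_mul π (k * x), map_mul π k, map_inv, hπx, hkq', ← map_inv, ← map_mul, ← map_mul, ← conj_pow, hkq] at h
    have h' := e.symm.injective h.symm
    rw [← zpow_natCast, ← zpow_mul, ← zpow_natCast] at h'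
    refine hxj ?_
    have h2 : xq ^ ((j - 1) * 2) = 1 := by
      rw [sub_mul, one_mul, zpow_sub]
      exact mul_inv_eq_one.2 h'
    rw [← orderOf_dvd_iff_zpow_eq_one, hxq] at h2
    have h3 := ((Nat.prime_iff_prime_int.1 hrp).dvd_or_dvd h2).resolve_right fun h => hr2 (by exact_mod_cast h)
    rw [← hxq, orderOf_dvd_iff_zpow_eq_one, zpow_sub, zpow_one, mul_inv_eq_one] at h3
    exact h3
  -- the radical has no further involutions
  have htwo : ∀ y ∈ R, y * y ∈ Z → y ∈ Z := by
    intro y hy hyy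
    by_contra hyZ
    obtain ⟨A, ⟨d⟩⟩ := (S0802.result (F := ZMod 13) 13 1 (by rw [ZMod.card, pow_one])).2 (by norm_num)
    set f : alternatingGroup (Fin 4) →* G ⧸ R :=
      e.symm.toMonoidHom.comp (A.subtype.comp d.symm.toMonoidHom) with hf
    have hfi : Function.Injective f := e.symm.injective.comp (A.subtype_injective.comp d.symm.injective)
    set a4 : alternatingGroup (Fin 4) :=
      ⟨Equiv.swap 0 1 * Equiv.swap 2 3, Equiv.Perm.mem_alternatingGroup.2 (by decide)⟩ with ha4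
    set k4 : alternatingGroup (Fin 4) :=
      ⟨Equiv.swap 0 1 * Equiv.swap 1 2, Equiv.Perm.mem_alternatingGroup.2 (by decide)⟩ with hk4
    set b4 := k4 * a4 * k4⁻¹ with hb4
    have hfacts : a4 * a4 = 1 ∧ b4 * b4 = 1 ∧ a4 * b4 = b4 * a4 ∧ k4 * b4 * k4⁻¹ = a4 * b4 ∧ b4 ≠ 1 ∧ b4 ≠ a4 := by
      rw [hb4, ha4, hk4]; decide
    obtain ⟨haa, hbb, hab, hkb, hb1, hba⟩ := hfacts
    obtain ⟨a0, ha0, ha0q⟩ := hKlift (f a4)
    obtain ⟨k0, hk0, hk0q⟩ := hKlift (f k4)
    set b0 := k0 * a0 * k0⁻¹ with hb0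
    have hb0K : b0 ∈ K := mul_mem (mul_mem hk0 ha0) (inv_mem hk0)
    have hb0q : π b0 = f b4 := by rw [hb0, hb4, map_mul, map_mul, map_inv, ha0q, hk0q, map_mul, map_mul, map_inv]
    set Q1 : Subgroup G := (zpowers (f a4)).comap π ⊓ K with hQ1
    set w := b0 * y with hwdef
    have hwq : π w = f b4 := by rw [hwdef, map_mul, hb0q, hmem.2 hy, mul_one]
    have hcab : Commute (f b4) (f a4) := by
      show f b4 * f a4 = f a4 * f b4
      rw [← map_mul, ← map_mul, hab]
    have hwconj : ∀ v ∈ Q1, w * v * w⁻¹ ∈ Q1 := by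
      intro v hv
      refine ⟨?_, hKn.conj_mem v hv.2 w⟩
      show π (w * v * w⁻¹) ∈ zpowers (f a4)
      obtain ⟨i, hi⟩ := mem_zpowers_iff.1 hv.1
      rw [map_mul, map_mul, map_inv, ← hi, hwq, (hcab.zpow_right i).eq, mul_inv_cancel_right]
      exact zpow_mem (mem_zpowers _) i
    have hww : w * w ∈ Q1 := by
      refine ⟨?_, ?_⟩
      · show π (w * w) ∈ zpowers (f a4)
        rw [map_mul, hwq, ← map_mul, hbb, map_one]
        exact one_mem _
      · have hyb : Commute b0 y := hRK y hy b0 hb0K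
        rw [hwdef, ← pow_two, hyb.mul_pow, pow_two, pow_two]
        exact K.mul_mem (K.mul_mem hb0K hb0K) hyy.1
    have hwconj' : ∀ v ∈ Q1, w⁻¹ * v * w ∈ Q1 := by
      intro v hv
      have := mul_mem (mul_mem (inv_mem hww) (hwconj v hv)) hww
      rwa [show (w * w)⁻¹ * (w * v * w⁻¹) * (w * w) = w⁻¹ * v * w by group] at this
    let H : Subgroup G :=
      { carrier := {h | ∃ u ∈ Q1, h = u ∨ h = u * w}
        one_mem' := ⟨1, one_mem Q1, Or.inl rfl⟩
        mul_mem' := by
          rintro g h ⟨u, hu, hg⟩ ⟨v, hv, hh⟩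
          rcases hg with rfl | rfl <;> rcases hh with rfl | rfl
          · exact ⟨_, mul_mem hu hv, Or.inl rfl⟩
          · exact ⟨_, mul_mem hu hv, Or.inr (mul_assoc _ _ _).symm⟩
          · exact ⟨_, mul_mem hu (hwconj _ hv), Or.inr (by group)⟩
          · exact ⟨_, mul_mem (mul_mem hu (hwconj _ hv)) hww, Or.inl (by group)⟩
        inv_mem' := by
          rintro g ⟨u, hu, hg⟩
          rcases hg with rfl | rfl
          · exact ⟨_, inv_mem hu, Or.inl rfl⟩
          · exact ⟨_, mul_mem (hwconj' _ (inv_mem hu)) (inv_mem hww), Or.inr (by group)⟩ }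
    have hQ1p : ∀ v ∈ Q1, v ^ 4 = 1 := by
      intro v hv
      obtain ⟨i, hi⟩ := mem_zpowers_iff.1 hv.1
      have hz : v * v ∈ Z := ⟨mul_mem hv.2 hv.2, hmem.1 (by
        rw [map_mul, ← hi, ← zpow_add, ← two_mul, zpow_mul, zpow_two, ← map_mul, haa, map_one, one_zpow])⟩
      rw [show 4 = 2 * 2 from rfl, pow_mul, pow_two, pow_two, hZsq _ hz]
    have hHp : IsPGroup 2 H := by
      refine isPGroup_of_four ?_
      rintro g ⟨u, hu, hg | hg⟩
      · exact ⟨2, by rw [hg]; exact hQ1p u hu⟩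
      · refine ⟨3, ?_⟩
        have hsq : g * g ∈ Q1 := by
          rw [hg, show u * w * (u * w) = u * (w * u * w⁻¹) * (w * w) by group]
          exact mul_mem (mul_mem hu (hwconj u hu)) hww
        rw [show 2 ^ 3 = 2 * 4 from rfl, pow_mul, pow_two]
        exact hQ1p _ hsq
    set V := zpowers (f a4) ⊔ zpowers (f b4) with hV
    have haH : a0 ∈ H := ⟨a0, ⟨ha0q ▸ mem_zpowers _, ha0⟩, Or.inl rfl⟩
    have hmap : H.map π = V := by
      refine le_antisymm ?_ (sup_le (zpowers_le.2 ⟨a0, haH, ha0q⟩)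
        (zpowers_le.2 ⟨w, ⟨1, one_mem Q1, Or.inr (one_mul w).symm⟩, hwq⟩))
      rintro _ ⟨g, ⟨u, hu, hg | hg⟩, rfl⟩
      · rw [hg]; exact mem_sup_left hu.1
      · rw [hg, map_mul, hwq]; exact mul_mem (mem_sup_left hu.1) (mem_sup_right (mem_zpowers _))
    have hn : k0 ∈ normalizer (H : Set G) := by
      haveI := hHp.isNilpotent
      refine lift_normalizer hG hπ hnsX inferInstance ⟨2, 2, Nat.prime_two, Nat.prime_two, fun q hq hd => ?_⟩
        ?_ ?_
      · obtain ⟨n, hn⟩ := IsPGroup.iff_card.1 hHp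
        rw [hn] at hd
        exact Or.inl ((Nat.prime_dvd_prime_iff_eq hq Nat.prime_two).1 (hq.dvd_of_dvd_pow hd))
      · rw [hmap]
        exact fun h => hb1 (hfi (by rw [(eq_bot_iff_forall _).1 h _ (mem_sup_right (mem_zpowers _)), map_one]))
      · rw [hmap, hk0q]
        refine mem_normalizer_fintype fun c hc => ?_
        have hle : V ≤ V.comap (MulAut.conj (f k4)).toMonoidHom := by
          refine sup_le (zpowers_le.2 ?_) (zpowers_le.2 ?_) <;>
            simp only [mem_comap, MulEquiv.coe_toMonoidHom, MulAut.conj_apply, ← map_inv, ← map_mul]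
          · exact mem_sup_right (by rw [hb4]; exact mem_zpowers _)
          · rw [hkb, map_mul]
            exact mul_mem (mem_sup_left (mem_zpowers _)) (mem_sup_right (mem_zpowers _))
        simpa using hle hc
    obtain ⟨u, hu, hb | hb⟩ : b0 ∈ H := (mem_normalizer_iff.1 hn a0).1 haH
    · obtain ⟨i, hi⟩ := mem_zpowers_iff.1 (show π b0 ∈ zpowers (f a4) from hb ▸ hu.1)
      rw [hb0q] at hi
      rcases Int.even_or_odd' i with ⟨c, rfl | rfl⟩
      · rw [zpow_mul, zpow_two, ← map_mul, haa, map_one, one_zpow, ← map_one f] at hi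
        exact hb1 (hfi hi.symm)
      · rw [zpow_add, zpow_mul, zpow_two, ← map_mul, haa, map_one, one_zpow, one_mul, zpow_one] at hi
        exact hba (hfi hi.symm)
    · refine hyZ ⟨?_, hy⟩
      have : y = (u * b0)⁻¹ * b0 := by
        rw [eq_inv_mul_iff_mul_eq, mul_assoc, ← hwdef, ← hb]
      rw [this]
      exact K.mul_mem (K.inv_mem (K.mul_mem hu.2 hb0K)) hb0K
  -- the complement
  set ZR := K.subgroupOf R with hZR
  haveI : ZR.Normal := Normal.subgroupOf hKn R
  have hidx : ¬ 2 ∣ ZR.index := by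
    intro h
    obtain ⟨q, hq⟩ := exists_prime_orderOf_dvd_card' (G := R ⧸ ZR) 2 h
    obtain ⟨⟨y, hy⟩, rfl⟩ := QuotientGroup.mk'_surjective ZR q
    have h2 : (⟨y, hy⟩ : R) * ⟨y, hy⟩ ∈ ZR := by
      rw [← QuotientGroup.eq_one_iff, QuotientGroup.mk_mul, ← pow_two]
      exact hq ▸ pow_orderOf_eq_one _
    have h3 := htwo y hy ⟨h2, mul_mem hy hy⟩
    rw [QuotientGroup.mk'_apply, (QuotientGroup.eq_one_iff _).2 (show (⟨y, hy⟩ : R) ∈ ZR from h3.1), orderOf_one] at hq
    exact absurd hq (by norm_num)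
  have hZcard : ∀ q : ℕ, q.Prime → q ∣ Nat.card ZR → q = 2 := by
    intro q hq hd
    haveI := Fact.mk hq
    obtain ⟨⟨⟨z, hzR⟩, hz⟩, hzo⟩ := exists_prime_orderOf_dvd_card' (G := ZR) q hd
    rw [orderOf_mk, orderOf_mk] at hzo
    have := hZsq z ⟨hz, hzR⟩
    rw [← pow_two, ← orderOf_dvd_iff_pow_eq_one, hzo] at this
    exact (Nat.prime_dvd_prime_iff_eq hq Nat.prime_two).1 this
  obtain ⟨S', hS'⟩ := exists_right_complement'_of_coprime (N := ZR)
    (Nat.coprime_of_dvd fun q hq h1 h2 => hidx (hZcard q hq h1 ▸ h2))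
  set S : Subgroup G := S'.map R.subtype with hS
  have hSR : S ≤ R := map_subtype_le S'
  have hScard : Nat.card S = ZR.index := by
    rw [hS, card_map_of_injective R.subtype_injective, hS'.symm.index_eq_card]
  have hKS : K ⊓ S = ⊥ := by
    refine (eq_bot_iff_forall _).2 ?_
    rintro _ ⟨hxK, s, hs, rfl⟩
    have h0 : s ∈ ZR ⊓ S' := ⟨hxK, hs⟩
    rw [disjoint_iff.1 hS'.disjoint, mem_bot] at h0
    rw [h0, map_one]
  have hKZR : ∀ r ∈ R, ∃ z ∈ Z, ∃ s ∈ S, r = z * s := by
    intro r hr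
    have h : (⟨r, hr⟩ : R) ∈ ZR ⊔ S' := hS'.sup_eq_top ▸ mem_top _
    rw [mem_sup_of_normal_left] at h
    obtain ⟨z, hz, s, hs, hzs⟩ := h
    exact ⟨z, ⟨hz, z.2⟩, s, mem_map_of_mem _ hs, (congrArg Subtype.val hzs).symm⟩
  have hSn : S.Normal := by
    refine ⟨fun s hs g => ?_⟩
    obtain ⟨z, hz, t, ht, hzt⟩ := hKZR _ (hRn.conj_mem s (hSR hs) g)
    have hzt1 : Commute z t := hRK t (hSR ht) z hz.1
    have hp : ∀ a ∈ S, a ^ Nat.card S = 1 := fun a ha =>
      congrArg Subtype.val (pow_card_eq_one' (x := (⟨a, ha⟩ : S)))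
    have hz1 : z ^ Nat.card S = 1 := by
      have h := congrArg (· ^ Nat.card S) hzt
      simp only [conj_pow, hp s hs, mul_one, mul_inv_cancel, hzt1.mul_pow, hp t ht] at h
      exact h.symm
    obtain ⟨c, hc⟩ : Odd (Nat.card S) := Nat.not_even_iff_odd.1 fun h => hidx (hScard ▸ even_iff_two_dvd.1 h)
    rw [hc, pow_succ, pow_mul, pow_two, hZsq z hz, one_pow, one_mul] at hz1
    rw [hzt, hz1, one_mul]
    exact ht
  have hKSt : K ⊔ S = ⊤ := by
    refine (eq_top_iff' _).2 fun g => ?_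
    obtain ⟨k, hk, hkg⟩ := hKlift (π g)
    obtain ⟨z, hz, s, hs, h⟩ := hKZR (k⁻¹ * g) (hmem.1 (by rw [map_mul, map_inv, hkg, inv_mul_cancel]))
    rw [show g = k * (k⁻¹ * g) by group, h, ← mul_assoc]
    exact mul_mem_sup (mul_mem hk hz.1) hs
  -- cyclic subgroups of the complement are normal
  obtain ⟨x, hxK, hxq, hx3⟩ : ∃ x ∈ K, π x ≠ 1 ∧ x ^ 3 = 1 := by
    obtain ⟨xq, kq, j, hxq, -, -⟩ := exists_conj_power 3 (Or.inl rfl)
    obtain ⟨x0, hx0, hx0q⟩ := hKlift (e.symm xq)
    refine ⟨x0 * x0, mul_mem hx0 hx0, ?_, ?_⟩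
    · rw [map_mul, hx0q, ← map_mul, ← pow_two, Ne, MulEquiv.map_eq_one_iff, ← orderOf_dvd_iff_pow_eq_one, hxq]
      norm_num
    · have hz : x0 ^ 3 ∈ Z := ⟨pow_mem hx0 3, hmem.1 (by
        rw [map_pow, hx0q, ← map_pow, ← hxq, pow_orderOf_eq_one, map_one])⟩
      rw [(Commute.refl x0).mul_pow, hZsq _ hz]
  have hcyc : ∀ (n : ℕ) (s : G), orderOf s = n → s ∈ S → ∀ t ∈ S, t * s * t⁻¹ ∈ zpowers s := by
    intro n
    induction n using Nat.recOnPosPrimePosCoprime with
    | zero => intro s hn; exact absurd hn (orderOf_pos s).ne'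
    | one =>
      intro s hn _ t _
      rw [orderOf_eq_one_iff.1 hn, mul_one, mul_inv_cancel]
      exact one_mem _
    | coprime a b ha hb hab iha ihb =>
      intro s hn hs t ht
      have hb' : orderOf (s ^ b) = a := by
        rw [orderOf_pow' _ (by omega), hn, Nat.gcd_eq_right (dvd_mul_left b a), Nat.mul_div_cancel _ (by omega)]
      have ha' : orderOf (s ^ a) = b := by
        rw [orderOf_pow' _ (by omega), hn, Nat.gcd_eq_right (dvd_mul_right a b), Nat.mul_div_cancel_left _ (by omega)]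
      have h1 := iha _ hb' (pow_mem hs _) t ht
      have h2 := ihb _ ha' (pow_mem hs _) t ht
      obtain ⟨u, v, huv⟩ : ∃ u v : ℤ, (1 : ℤ) = a * u + b * v := by
        refine ⟨Int.gcdA a b, Int.gcdB a b, ?_⟩
        rw [← Int.gcd_eq_gcd_ab, Int.gcd_natCast_natCast, hab.gcd_eq_one]
        rfl
      have e : s = (s ^ a) ^ u * (s ^ b) ^ v := by
        rw [← zpow_natCast s a, ← zpow_natCast s b, ← zpow_mul, ← zpow_mul, ← zpow_add, ← huv, zpow_one]
      have hza : zpowers (s ^ a) ≤ zpowers s := zpowers_le.2 (pow_mem (mem_zpowers s) a)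
      have hzb : zpowers (s ^ b) ≤ zpowers s := zpowers_le.2 (pow_mem (mem_zpowers s) b)
      have e2 : t * s * t⁻¹ = (t * s ^ a * t⁻¹) ^ u * (t * s ^ b * t⁻¹) ^ v := by
        conv_lhs => rw [e]
        rw [conj_zpow, conj_zpow, conj_mul]
      rw [e2]
      exact mul_mem (zpow_mem (hza h2) u) (zpow_mem (hzb h1) v)
    | prime_pow p k hp hk =>
      intro s hn hs t ht
      have hxs : Commute x s := hRK s (hSR hs) x hxK
      have hN : t ∈ normalizer (zpowers (x * s) : Set G) := by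
        refine lift_normalizer hG hπ hnsX inferInstance ⟨3, p, Nat.prime_three, hp, fun q hq hd => ?_⟩ ?_
          (by rw [hmem.2 (hSR ht)]; exact one_mem _)
        · rw [Nat.card_zpowers] at hd
          have : orderOf (x * s) ∣ 3 * p ^ k := orderOf_dvd_of_pow_eq_one (by
            rw [hxs.mul_pow, pow_mul x, hx3, one_pow, one_mul, mul_comm, pow_mul, ← hn, pow_orderOf_eq_one, one_pow])
          rcases (Nat.Prime.dvd_mul hq).1 (hd.trans this) with h | h
          · exact Or.inl ((Nat.prime_dvd_prime_iff_eq hq Nat.prime_three).1 h)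
          · exact Or.inr ((Nat.prime_dvd_prime_iff_eq hq hp).1 (hq.dvd_of_dvd_pow h))
        · rw [MonoidHom.map_zpowers, Ne, zpowers_eq_bot, map_mul, hmem.2 (hSR hs), mul_one]
          exact hxq
      obtain ⟨i, hi⟩ := mem_zpowers_iff.1 (zpowers_conj_mem _ hN)
      have hxt : t * x * t⁻¹ = x := by rw [← (hRK t (hSR ht) x hxK).eq, mul_inv_cancel_right]
      rw [hxs.mul_zpow, ← conj_mul, hxt] at hi
      have h0 : (s ^ i)⁻¹ * (t * s * t⁻¹) ∈ K ⊓ S := by
        refine ⟨?_, S.mul_mem (S.inv_mem (zpow_mem hs i)) (hSn.conj_mem s hs t)⟩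
        have : (s ^ i)⁻¹ * (t * s * t⁻¹) = x⁻¹ * x ^ i := by
          have hc : Commute (x⁻¹ * x ^ i) (s ^ i) :=
            (hxs.inv_left.mul_left (hxs.zpow_left i)).zpow_right i
          calc (s ^ i)⁻¹ * (t * s * t⁻¹) = (s ^ i)⁻¹ * (x⁻¹ * (x * (t * s * t⁻¹))) := by group
            _ = (s ^ i)⁻¹ * ((x⁻¹ * x ^ i) * s ^ i) := by rw [← hi, mul_assoc]
            _ = x⁻¹ * x ^ i := by rw [hc.eq, inv_mul_cancel_left]
        rw [this]
        exact K.mul_mem (K.inv_mem hxK) (zpow_mem hxK i)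
      rw [hKS, mem_bot, inv_mul_eq_one] at h0
      rw [← h0]
      exact zpow_mem (mem_zpowers s) i
  refine ⟨K, S, hKn, hSn, hKS, hKSt, hiso, ?_, ?_⟩
  · by_contra hna
    obtain ⟨Q, E, A, ⟨e8⟩, -⟩ := S4211.result (G := S) hna fun H => by
      refine ⟨fun h hh g => ?_⟩
      obtain ⟨i, hi⟩ := hcyc _ (h : G) rfl h.2 g g.2
      have : g * h * g⁻¹ = h ^ i := Subtype.ext (by simpa using hi.symm)
      rw [this]
      exact zpow_mem hh i
    have h8 := Nat.card_congr e8.toEquiv
    rw [Nat.card_eq_fintype_card (α := QuaternionGroup 2), QuaternionGroup.card] at h8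
    exact hidx (hScard ▸ (dvd_mul_right 2 4).trans (h8 ▸ card_subgroup_dvd_card Q))
  · refine Nat.coprime_of_dvd fun q hq hqK hqS => ?_
    have hqR : q ∣ Nat.card R := hqS.trans (card_dvd_of_le hSR)
    have hKc : Nat.card K = Nat.card (center K) * 1092 := by
      rw [← hσker, ← σ.ker.card_mul_index, index_ker, MonoidHom.range_eq_top.2 hσs, card_top,
        ← Nat.card_congr e.toEquiv, hcardX]
    rw [hKc] at hqK
    have hcases : q = 2 ∨ q = 3 ∨ q = 7 ∨ q = 13 := by
      rcases (Nat.Prime.dvd_mul hq).1 hqK with h | h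
      · have := Nat.le_of_dvd Nat.card_pos h
        have := hq.two_le
        omega
      · rw [show 1092 = 2 ^ 2 * (3 * (7 * 13)) from rfl] at h
        rcases (Nat.Prime.dvd_mul hq).1 h with h | h
        · exact Or.inl ((Nat.prime_dvd_prime_iff_eq hq Nat.prime_two).1 (hq.dvd_of_dvd_pow h))
        rcases (Nat.Prime.dvd_mul hq).1 h with h | h
        · exact Or.inr (Or.inl ((Nat.prime_dvd_prime_iff_eq hq Nat.prime_three).1 h))
        rcases (Nat.Prime.dvd_mul hq).1 h with h | h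
        · exact Or.inr (Or.inr (Or.inl ((Nat.prime_dvd_prime_iff_eq hq (by norm_num)).1 h)))
        · exact Or.inr (Or.inr (Or.inr ((Nat.prime_dvd_prime_iff_eq hq (by norm_num)).1 h)))
    rcases hcases with h | h
    · exact hidx (hScard ▸ h ▸ hqS)
    · exact hodd q h hqR

end Cfsg.Agent.MaxNorm13
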