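import Cfsg.Agent.Lib.MaxNorm13.Basic
import Cfsg.Agent.Lib.AlperinRankTwo.Simple
import Cfsg.Agent.Lib.CNSimple.Final

/-!
The Sylow 2-subgroups of the socle have rank at most two, or all centralisers of involutions are 2-groups.
-/

set_option autoImplicit false
set_option linter.unusedSectionVars false

namespace Cfsg.Agent.MaxNorm13

open Subgroup

universe u

variable {X : Type u} [Group X] [Finite X]

/-- A simple normal subgroup with trivial centraliser. -/
structure Socle (S : Subgroup X) : Prop where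
  normal : S.Normal
  simple : IsSimpleGroup S
  nab : ¬ IsMulCommutative S
  cent : centralizer (S : Set X) = ⊥

/-- A Sylow 2-subgroup of the whole group, adapted to one of the socle, and a central involution. -/
structure Adapted (S : Subgroup X) (P : Sylow 2 S) (T : Sylow 2 X) (z : X) : Prop where
  inf : (T : Subgroup X) ⊓ S = (P : Subgroup S).map S.subtype
  ord : orderOf z = 2
  memT : z ∈ T
  memS : z ∈ S
  central : (T : Subgroup X) ≤ Cz z

theorem Adapted.memP {S : Subgroup X} {P : Sylow 2 S} {T : Sylow 2 X} {z : X} (A : Adapted S P T z) :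
    (⟨z, A.memS⟩ : S) ∈ P := by
  obtain ⟨a, ha, e⟩ := A.inf.le ⟨A.memT, A.memS⟩
  exact (Subtype.ext e : a = ⟨z, A.memS⟩) ▸ ha

theorem exists_adapted {S : Subgroup X} (hS : Socle S) :
    ∃ (P : Sylow 2 S) (T : Sylow 2 X) (z : X), Adapted S P T z := by
  haveI := hS.simple
  haveI := hS.normal
  haveI : Fact (Nat.Prime 2) := ⟨Nat.prime_two⟩
  obtain ⟨P⟩ := (inferInstance : Nonempty (Sylow 2 S))
  obtain ⟨T, hT⟩ := (P.2.map S.subtype).exists_le_sylow
  have hinf : (T : Subgroup X) ⊓ S = (P : Subgroup S).map S.subtype := by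
    have h1 := P.3 ((T.2.to_le inf_le_left : IsPGroup 2 ((T : Subgroup X) ⊓ S : Subgroup X)).comap_of_injective
      S.subtype S.subtype_injective) (fun a ha => ⟨hT ⟨a, ha, rfl⟩, a.2⟩)
    rw [← h1, map_comap_eq_self]
    rw [range_subtype]; exact inf_le_right
  have hne : (P : Subgroup S) ≠ ⊥ := P.ne_bot_of_dvd_card
    (even_iff_two_dvd.1 (Nat.not_odd_iff_even.1 (AlperinRankTwo.not_odd hS.nab)))
  haveI : (((T : Subgroup X) ⊓ S).subgroupOf (T : Subgroup X)).Normal := by
    refine ⟨fun a ha g => ?_⟩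
    rw [mem_subgroupOf] at ha ⊢
    exact ⟨(g * a * g⁻¹).2, hS.normal.conj_mem _ ha.2 g⟩
  have hnb : ((T : Subgroup X) ⊓ S).subgroupOf (T : Subgroup X) ≠ ⊥ := by
    rw [Ne, subgroupOf_eq_bot, disjoint_iff, inf_right_comm, inf_idem, hinf]
    exact fun h => hne ((map_eq_bot_iff_of_injective _ S.subtype_injective).1 h)
  obtain ⟨z, hzm, hz, hzc⟩ := NormalFour.exists_central_mem T.2 (N := ((T : Subgroup X) ⊓ S).subgroupOf (T : Subgroup X)) hnb
  rw [mem_subgroupOf] at hzm
  exact ⟨P, T, z, hinf, by rw [orderOf_coe, hz], hzm.1, hzm.2,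
    fun g hg => mem_Cz.2 (congrArg Subtype.val (mem_center_iff.1 hzc ⟨g, hg⟩))⟩

variable (hX : Hyp X)
include hX

theorem isPGroup_Cz {t : X} (ht : orderOf t = 2) (h : oddPart hX ht = ⊥) : IsPGroup 2 (Cz t) := by
  rintro ⟨g, hg⟩
  obtain ⟨a, m, hm, e⟩ := Nat.exists_eq_two_pow_mul_odd (orderOf_pos g).ne'
  refine ⟨a, Subtype.ext ?_⟩
  have : g ^ 2 ^ a ∈ oddPart hX ht :=
    ⟨pow_mem hg _, Odd.of_dvd_nat hm (orderOf_dvd_of_pow_eq_one (by rw [← pow_mul, ← e, pow_orderOf_eq_one]))⟩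
  rw [h, mem_bot] at this
  exact this

theorem eq_of_central {t w : X} (ht : orderOf t = 2) (hw : orderOf w = 2) (h : Cz t ≤ Cz w) : Cz w = Cz t :=
  hX.eq_of_le ht h (hX.Cz_ne_top hw)

/-- Two commuting involutions inverting the odd part: their product has the same centraliser. -/
theorem mul_of_inverting {t u v : X} (ht : orderOf t = 2) (hA : oddPart hX ht ≠ ⊥) (hu : orderOf u = 2)
    (hv : orderOf v = 2) (hut : u ∈ Cz t) (hvt : v ∈ Cz t) (hun : Cz u ≠ Cz t) (hvn : Cz v ≠ Cz t)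
    (hc : Commute u v) (hne : u ≠ v) : orderOf (u * v) = 2 ∧ Cz (u * v) = Cz t := by
  have huv : orderOf (u * v) = 2 := by
    refine orderOf_eq_prime ?_ fun e => hne ?_
    · rw [hc.mul_pow, pow_two, pow_two, inv_self hu, inv_self hv, one_mul]
    · rw [eq_inv_of_mul_eq_one_left e, inv_eq_of_mul_eq_one_right (inv_self hv)]
  obtain ⟨⟨x, hx⟩, hx1⟩ := ne_bot_iff_exists_ne_one.1 hA
  refine ⟨huv, Cz_eq_of_commute hX ht huv hx (fun e => hx1 (Subtype.ext e)) ?_⟩
  have h1 := inverts hX ht hu hut hun (inv_mem hx)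
  have h2 := inverts hX ht hv hvt hvn hx
  show x * (u * v) = u * v * x
  calc x * (u * v) = (u * x⁻¹ * u⁻¹) * (u * v) := by rw [h1, inv_inv]
    _ = u * (x⁻¹ * v) := by group
    _ = u * ((v * x * v⁻¹) * v) := by rw [h2]
    _ = u * v * x := by group

theorem card_le_four {B : Subgroup X} (z : X)
    (h : ∀ a ∈ B, ∀ b ∈ B, a ≠ 1 → a ≠ z → b ≠ 1 → b ≠ z → b = a ∨ b = a * z) : Nat.card B ≤ 4 := by
  classical
  by_cases hB : ∀ a ∈ B, a = 1 ∨ a = z
  · have : (B : Set X) ⊆ ({1, z} : Set X) := fun a ha => hB a ha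
    calc Nat.card B ≤ Nat.card ({1, z} : Set X) := Nat.card_mono (Set.toFinite _) this
      _ ≤ 4 := by rw [Nat.card_coe_set_eq]; exact (Set.ncard_insert_le _ _).trans (by simp)
  · push Not at hB
    obtain ⟨a, ha, ha1, haz⟩ := hB
    have : (B : Set X) ⊆ ({1, z, a, a * z} : Set X) := fun b hb => by
      by_cases h1 : b = 1
      · simp [h1]
      by_cases h2 : b = z
      · simp [h2]
      rcases h a ha b hb ha1 haz h1 h2 with e | e <;> simp [e]
    calc Nat.card B ≤ Nat.card ({1, z, a, a * z} : Set X) := Nat.card_mono (Set.toFinite _) this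
      _ ≤ 4 := by
        rw [Nat.card_coe_set_eq]
        refine (Set.ncard_insert_le _ _).trans (Nat.succ_le_succ ?_)
        refine (Set.ncard_insert_le _ _).trans (Nat.succ_le_succ ?_)
        exact (Set.ncard_insert_le _ _).trans (by simp)

/-- The centre: the central involution of an adapted pair with nontrivial odd part has centraliser of rank two. -/
theorem unique_central {S : Subgroup X} (hS : Socle S) {P : Sylow 2 S} {T : Sylow 2 X} {z : X}
    (hz : Adapted S P T z) (hA : oddPart hX hz.ord ≠ ⊥) {w : X} (hw : orderOf w = 2)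
    (he : Cz w = Cz z) : w = z := by
  by_contra hwz
  haveI := hS.simple
  refine AlperinRankTwo.not_weakly_closed hS.nab P (u := ⟨z, hz.memS⟩) (by rw [orderOf_mk, hz.ord]) hz.memP
    fun g hg => Subtype.ext ?_
  show (g : X) * z * (g : X)⁻¹ = z
  set v := (g : X) * z * (g : X)⁻¹ with hvdef
  by_contra hvz
  have hvT : v ∈ (T : Subgroup X) := by
    have : v ∈ (P : Subgroup S).map S.subtype := ⟨_, hg, rfl⟩
    rw [← hz.inf] at this
    exact this.1
  have hv : orderOf v = 2 := two_conj hz.ord _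
  have hvn : Cz z ≠ Cz v := fun e => hvz (mem_Cz'.1 (mem_Cz_of_conj hX hz.ord e.symm))
  have hzv : z ∈ Cz v := mem_Cz.2 (mem_Cz.1 (hz.central hvT)).symm
  have hwv : w ∈ Cz v := mem_Cz.2 (mem_Cz.1 (he ▸ hz.central hvT : v ∈ Cz w)).symm
  have hzw : Commute z w := mem_Cz.1 (he ▸ self_mem_Cz z : z ∈ Cz w)
  have hAv : oddPart hX hv ≠ ⊥ := by
    obtain ⟨⟨x, hx⟩, hx1⟩ := ne_bot_iff_exists_ne_one.1 hA
    refine ne_bot_iff_exists_ne_one.2 ⟨⟨(g : X) * x * (g : X)⁻¹, ?_, ?_⟩,
      fun e => hx1 (Subtype.ext (conj_eq_one_iff.1 (congrArg Subtype.val e)))⟩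
    · rw [mem_Cz, hvdef]
      have := mem_Cz.1 hx.1
      calc (g : X) * x * (g : X)⁻¹ * ((g : X) * z * (g : X)⁻¹) = g * (x * z) * (g : X)⁻¹ := by group
        _ = g * (z * x) * (g : X)⁻¹ := by rw [this]
        _ = _ := by group
    · rw [show orderOf ((g : X) * x * (g : X)⁻¹) = orderOf x from
        orderOf_injective (MulAut.conj (g : X)).toMonoidHom (MulAut.conj (g : X)).injective x]
      exact hx.2
  obtain ⟨hzwo, hzwc⟩ := mul_of_inverting hX hv hAv hz.ord hw hzv hwv hvn (he ▸ hvn) hzw (Ne.symm hwz)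
  refine hvn (Eq.trans (Eq.symm (eq_of_central hX hz.ord hzwo fun a ha => ?_)) hzwc)
  refine mem_Cz.2 (Commute.mul_right (mem_Cz.1 ha : Commute a z) ?_).eq
  exact mem_Cz.1 (he ▸ ha : a ∈ Cz w)

/-- An elementary abelian 2-subgroup. -/
def Elem (B : Subgroup X) : Prop := (∀ a ∈ B, a * a = 1) ∧ ∀ a ∈ B, ∀ b ∈ B, a * b = b * a

theorem rank_one_case {S : Subgroup X} (hS : Socle S) {P : Sylow 2 S} {T : Sylow 2 X} {z : X}
    (hz : Adapted S P T z) (hA : oddPart hX hz.ord ≠ ⊥) (B : Subgroup X) (hB : B ≤ (T : Subgroup X))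
    (hE : Elem B) : Nat.card B ≤ 4 := by
  refine card_le_four hX z fun a ha b hb ha1 haz hb1 hbz => ?_
  by_cases hab : b = a
  · exact Or.inl hab
  have hao : orderOf a = 2 := orderOf_eq_prime (by rw [pow_two]; exact hE.1 a ha) ha1
  have hbo : orderOf b = 2 := orderOf_eq_prime (by rw [pow_two]; exact hE.1 b hb) hb1
  obtain ⟨hab2, habc⟩ := mul_of_inverting hX hz.ord hA hao hbo (hz.central (hB ha)) (hz.central (hB hb))
    (fun e => haz (unique_central hX hS hz hA hao e)) (fun e => hbz (unique_central hX hS hz hA hbo e))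
    (hE.2 a ha b hb) (Ne.symm hab)
  have := unique_central hX hS hz hA hab2 habc
  refine Or.inr ?_
  rw [← this, ← mul_assoc, hE.1 a ha, one_mul]

theorem Cz_central_eq {T : Sylow 2 X} {z : X} (hz : orderOf z = 2) (hle : (T : Subgroup X) ≤ Cz z)
    (hA : oddPart hX hz = ⊥) : Cz z = (T : Subgroup X) :=
  T.3 (isPGroup_Cz hX hz hA) hle

theorem rank_two_case {T : Sylow 2 X} {z : X} (hzo : orderOf z = 2) (hle : (T : Subgroup X) ≤ Cz z)
    (hA : oddPart hX hzo = ⊥) {t : X} (ht : orderOf t = 2) (htA : oddPart hX ht ≠ ⊥)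
    (htT : t ∈ (T : Subgroup X)) (hsyl : ∀ Q : Subgroup X, Q ≤ Cz t → IsPGroup 2 Q → (T : Subgroup X) ⊓ Cz t ≤ Q →
      Q = (T : Subgroup X) ⊓ Cz t)
    (B : Subgroup X) (hB : B ≤ (T : Subgroup X)) (hE : Elem B) : Nat.card B ≤ 4 := by
  haveI : Fact (Nat.Prime 2) := ⟨Nat.prime_two⟩
  have hCz : Cz z = (T : Subgroup X) := Cz_central_eq hX hzo hle hA
  have hno : ∀ {a : X} (ha : orderOf a = 2), IsPGroup 2 (Cz a) → oddPart hX ha = ⊥ := by
    intro a ha h
    refine (eq_bot_iff_forall _).2 fun x hx => ?_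
    obtain ⟨k, hk⟩ := IsPGroup.iff_orderOf.1 h ⟨x, hx.1⟩
    rw [orderOf_mk] at hk
    have hodd := hx.2
    rw [hk] at hodd
    rcases Nat.eq_zero_or_pos k with rfl | hk0
    · rw [pow_zero, orderOf_eq_one_iff] at hk; exact hk
    · rw [Nat.odd_pow_iff hk0.ne'] at hodd; exact absurd hodd (by decide)
  have hne : Cz z ≠ Cz t := fun e => htA (hno ht (e ▸ isPGroup_Cz hX hzo hA))
  set Tt : Subgroup X := (T : Subgroup X) ⊓ Cz t with hTt
  have hzt : z ∈ Cz t := mem_Cz.2 (mem_Cz.1 (hle htT)).symm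
  have hzTt : z ∈ Tt := ⟨hCz ▸ self_mem_Cz z, hzt⟩
  have hlt : Tt ≠ (T : Subgroup X) := fun e => by
    have h1 : (T : Subgroup X) ≤ Cz t := e ▸ inf_le_right
    exact hne (hX.eq_of_le hzo (hCz ▸ h1) (hX.Cz_ne_top ht)).symm
  haveI : Group.IsNilpotent ↥(T : Subgroup X) := T.2.isNilpotent
  obtain ⟨s, hsT, hsn, hst⟩ : ∃ s ∈ (T : Subgroup X), s ∉ Tt ∧ s ∈ normalizer (Tt : Set X) := by
    have hlt' : Tt.subgroupOf (T : Subgroup X) < ⊤ := lt_top_iff_ne_top.2 fun e =>
      hlt (le_antisymm inf_le_left (subgroupOf_eq_top.1 e))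
    obtain ⟨s, hs1, hs2⟩ := SetLike.exists_of_lt (normalizerCondition_of_isNilpotent _ hlt')
    refine ⟨(s : X), s.2, fun h => hs2 h, mem_normalizer_iff.2 fun a => ⟨fun ha => ?_, fun ha => ?_⟩⟩
    · exact (mem_normalizer_iff.1 hs1 ⟨a, ha.1⟩).1 ha
    · have haT : a ∈ (T : Subgroup X) := by
        have := mul_mem (mul_mem (inv_mem s.2) ha.1) s.2
        simpa [mul_assoc] using this
      exact (mem_normalizer_iff.1 hs1 ⟨a, haT⟩).2 ha
  have hsfix : s * z * s⁻¹ = z := mem_Cz'.1 (hle hsT)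
  have hwT : ∀ w : X, orderOf w = 2 → Cz w = Cz t → w ∈ Tt := by
    intro w hw he
    have hwt : w ∈ Cz t := he ▸ self_mem_Cz w
    have hc : ∀ a ∈ Tt, Commute a w := fun a ha => mem_Cz.1 (he ▸ ha.2 : a ∈ Cz w)
    have hn : zpowers w ≤ normalizer (Tt : Set X) := by
      rw [zpowers_le]
      refine centralizer_le_normalizer _ (mem_centralizer_iff.2 fun a ha => (hc a ha).eq)
    have hp : IsPGroup 2 ↥(Tt ⊔ zpowers w) :=
      IsPGroup.to_sup_of_normal_left' (T.2.to_le inf_le_left) (isPGroup_zpowers (k := 1) (by rw [hw, pow_one])) hn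
    have := hsyl _ (sup_le inf_le_right (zpowers_le.2 hwt)) hp le_sup_left
    exact this ▸ mem_sup_right (mem_zpowers w)
  have huniq : ∀ w : X, orderOf w = 2 → Cz w = Cz t → w = t := by
    intro w hw he
    by_contra hwt
    have hto : orderOf (s * t * s⁻¹) = 2 := two_conj ht s
    have hwo : orderOf (s * w * s⁻¹) = 2 := two_conj hw s
    have h1 := (mem_normalizer_iff.1 hst t).1 ⟨htT, self_mem_Cz t⟩
    have h2 := (mem_normalizer_iff.1 hst w).1 (hwT w hw he)
    have hneq : Cz (s * t * s⁻¹) ≠ Cz t := fun e =>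
      hsn ⟨hsT, mem_Cz_of_conj hX ht e⟩
    have hmap : ∀ a, s * a * s⁻¹ ∈ Cz (s * t * s⁻¹) ↔ s * a * s⁻¹ ∈ Cz (s * w * s⁻¹) := fun a => by
      have hh : ∀ y : X, s * a * s⁻¹ ∈ Cz (s * y * s⁻¹) ↔ a ∈ Cz y := fun y => by
        rw [mem_Cz, mem_Cz, show s * a * s⁻¹ * (s * y * s⁻¹) = s * (a * y) * s⁻¹ by group,
          show s * y * s⁻¹ * (s * a * s⁻¹) = s * (y * a) * s⁻¹ by group, mul_left_inj, mul_right_inj]
      rw [hh, hh, he]
    have heq : Cz (s * t * s⁻¹) = Cz (s * w * s⁻¹) := by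
      ext a
      have := hmap (s⁻¹ * a * s)
      rwa [show s * (s⁻¹ * a * s) * s⁻¹ = a by group] at this
    have hc : Commute (s * t * s⁻¹) (s * w * s⁻¹) := mem_Cz.1 (heq ▸ self_mem_Cz _ : s * t * s⁻¹ ∈ Cz (s * w * s⁻¹))
    obtain ⟨ho, hC⟩ := mul_of_inverting hX ht htA hto hwo h1.2 h2.2 hneq (heq ▸ hneq) hc
      (fun e => hwt (mul_left_cancel (mul_right_cancel e)).symm)
    refine hneq ((eq_of_central hX hto ho fun a ha => mem_Cz.2 ?_).symm.trans hC)
    exact (Commute.mul_right (mem_Cz.1 ha : Commute a _) (mem_Cz.1 (heq ▸ ha : a ∈ Cz (s * w * s⁻¹)))).eq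
  have hinv : ∀ a ∈ Tt, a ≠ 1 → a * a = 1 → a = t ∨ a = z ∨ a = t * z := by
    intro a ha ha1 haa
    have hao : orderOf a = 2 := orderOf_eq_prime (by rw [pow_two]; exact haa) ha1
    by_cases h1 : a = t
    · exact Or.inl h1
    by_cases h2 : a = z
    · exact Or.inr (Or.inl h2)
    obtain ⟨ho, hC⟩ := mul_of_inverting hX ht htA hao hzo ha.2 hzt (fun e => h1 (huniq a hao e)) hne
      (mem_Cz.1 (hle ha.1)) h2
    right; right
    rw [← huniq _ ho hC, mul_assoc, inv_self hzo, mul_one]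
  have htz : Commute t z := (mem_Cz.1 hzt).symm
  let E : Subgroup X :=
    { carrier := {a | a = 1 ∨ a = t ∨ a = z ∨ a = t * z}
      one_mem' := Or.inl rfl
      mul_mem' := by
        have e1 := inv_self ht
        have e2 := inv_self hzo
        have e3 : z * t = t * z := htz.eq.symm
        have e4 : z * (t * z) = t := by rw [← mul_assoc, e3, mul_assoc, e2, mul_one]
        have e5 : t * z * t = z := by rw [mul_assoc, e3, ← mul_assoc, e1, one_mul]
        rintro a b (rfl | rfl | rfl | rfl) (rfl | rfl | rfl | rfl) <;>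
          simp [e1, e2, e3, e4, e5, ← mul_assoc] <;> simp [mul_assoc, e1, e2, e3]
      inv_mem' := by
        rintro a (rfl | rfl | rfl | rfl)
        · exact Or.inl inv_one
        · exact Or.inr (Or.inl (inv_eq_of_mul_eq_one_right (inv_self ht)))
        · exact Or.inr (Or.inr (Or.inl (inv_eq_of_mul_eq_one_right (inv_self hzo))))
        · refine Or.inr (Or.inr (Or.inr ?_))
          rw [mul_inv_rev, inv_eq_of_mul_eq_one_right (inv_self ht), inv_eq_of_mul_eq_one_right (inv_self hzo),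
            htz.eq] }
  have hEsub : ∀ a ∈ E, a ∈ Tt ∧ a * a = 1 := by
    rintro a (rfl | rfl | rfl | rfl)
    · exact ⟨one_mem _, one_mul 1⟩
    · exact ⟨⟨htT, self_mem_Cz _⟩, inv_self ht⟩
    · exact ⟨hzTt, inv_self hzo⟩
    · exact ⟨mul_mem ⟨htT, self_mem_Cz _⟩ hzTt, by rw [← pow_two, htz.mul_pow, pow_two, pow_two, inv_self ht, inv_self hzo, one_mul]⟩
  have hEp : IsPGroup 2 E := fun a => ⟨1, Subtype.ext (by simpa [pow_two] using (hEsub a a.2).2)⟩
  have hEne : E ≠ ⊥ := fun e => ne_one_of_two ht ((eq_bot_iff_forall _).1 e t (Or.inr (Or.inl rfl)))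
  have hsE : s ∈ normalizer (E : Set X) := by
    refine mem_normalizer_iff.2 fun a => ⟨fun ha => ?_, fun ha => ?_⟩
    · have h1 := (mem_normalizer_iff.1 hst a).1 (hEsub a ha).1
      by_cases e : s * a * s⁻¹ = 1
      · exact Or.inl e
      · exact Or.inr (hinv _ h1 e (by
          rw [show s * a * s⁻¹ * (s * a * s⁻¹) = s * (a * a) * s⁻¹ by group, (hEsub a ha).2, mul_one, mul_inv_cancel]))
    · have h1 := (mem_normalizer_iff.1 hst a).2 (hEsub _ ha).1
      by_cases e : a = 1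
      · exact Or.inl e
      · refine Or.inr (hinv _ h1 e ((conj_eq_one_iff (a := s)).1 ?_))
        rw [← (hEsub _ ha).2]; group
  have hswap : s * t * s⁻¹ = t * z := by
    have h1 := (mem_normalizer_iff.1 hsE t).1 (Or.inr (Or.inl rfl))
    rcases h1 with e | e | e | e
    · exact absurd (conj_eq_one_iff.1 e) (ne_one_of_two ht)
    · exact absurd ⟨hsT, mem_Cz'.2 e⟩ hsn
    · exact absurd (mul_left_cancel (mul_right_cancel (e.trans hsfix.symm))) (fun h => hne (by rw [h]))
    · exact e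
  have hNz : normalizer (E : Set X) ≤ Cz z := by
    intro g hg
    have h1 := (mem_normalizer_iff.1 hg z).1 (Or.inr (Or.inr (Or.inl rfl)))
    have hgz : IsPGroup 2 (Cz (g * z * g⁻¹)) := by
      have : Cz (g * z * g⁻¹) = (Cz z).map (MulAut.conj g).toMonoidHom := by
        ext a
        rw [mem_map_equiv, MulAut.conj_symm_apply, mem_Cz, mem_Cz]
        constructor <;> intro e
        · calc g⁻¹ * a * g * z = g⁻¹ * (a * (g * z * g⁻¹)) * g := by group
            _ = g⁻¹ * (g * z * g⁻¹ * a) * g := by rw [e]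
            _ = z * (g⁻¹ * a * g) := by group
        · calc a * (g * z * g⁻¹) = g * (g⁻¹ * a * g * z) * g⁻¹ := by group
            _ = g * (z * (g⁻¹ * a * g)) * g⁻¹ := by rw [e]
            _ = g * z * g⁻¹ * a := by group
      rw [this]
      exact (isPGroup_Cz hX hzo hA).map _
    rcases h1 with e | e | e | e
    · exact absurd (conj_eq_one_iff.1 e) (ne_one_of_two hzo)
    · exact absurd (hno ht (e ▸ hgz)) htA
    · exact mem_Cz'.2 e
    · exfalso
      have hco : orderOf (t * z) = 2 := hswap ▸ two_conj ht s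
      obtain ⟨⟨x, hx⟩, hx1⟩ := ne_bot_iff_exists_ne_one.1 htA
      refine hx1 (Subtype.ext ((conj_eq_one_iff (a := s)).1 ((eq_bot_iff_forall _).1 (hno hco (e ▸ hgz)) _ ⟨?_, ?_⟩)))
      · rw [mem_Cz, ← hswap]
        calc s * x * s⁻¹ * (s * t * s⁻¹) = s * (x * t) * s⁻¹ := by group
          _ = s * (t * x) * s⁻¹ := by rw [mem_Cz.1 hx.1]
          _ = _ := by group
      · rw [show orderOf (s * x * s⁻¹) = orderOf x from
          orderOf_injective (MulAut.conj s).toMonoidHom (MulAut.conj s).injective x]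
        exact hx.2
  have hNE : normalizer (E : Set X) = Cz z :=
    (((hX.coatom_pgroup Nat.prime_two hEp hEne).le_iff.1 hNz).resolve_left (hX.Cz_ne_top hzo)).symm
  refine card_le_four hX z fun a ha b hb ha1 haz hb1 hbz => ?_
  have key : ∀ x ∈ B, x ∉ Tt → x * t * x⁻¹ = t * z := by
    intro x hx hxn
    have h1 := (mem_normalizer_iff.1 (hNE.symm ▸ hle (hB hx)) t).1 (Or.inr (Or.inl rfl))
    rcases h1 with e | e | e | e
    · exact absurd (conj_eq_one_iff.1 e) (ne_one_of_two ht)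
    · exact absurd ⟨hB hx, mem_Cz'.2 e⟩ hxn
    · exact absurd (mul_left_cancel (mul_right_cancel (e.trans (mem_Cz'.1 (hle (hB hx))).symm))) (fun h => hne (by rw [h]))
    · exact e
  have hin : ∀ c ∈ B, c ∈ Tt → ∀ x ∈ B, x ∉ Tt → c = 1 ∨ c = z := by
    intro c hc hct x hx hxn
    by_cases c1 : c = 1
    · exact Or.inl c1
    have hk := key x hx hxn
    have hcx : x * c * x⁻¹ = c := by rw [hE.2 x hx c hc, mul_inv_cancel_right]
    rcases hinv c hct c1 (hE.1 c hc) with e | e | e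
    · rw [e, hk] at hcx
      exact absurd (mul_eq_left.1 hcx) (ne_one_of_two hzo)
    · exact Or.inr e
    · rw [e, show x * (t * z) * x⁻¹ = (x * t * x⁻¹) * (x * z * x⁻¹) by group, hk, mem_Cz'.1 (hle (hB hx)),
        mul_assoc, inv_self hzo, mul_one] at hcx
      exact absurd (mul_eq_left.1 hcx.symm) (ne_one_of_two hzo)
  by_cases hat : a ∈ Tt
  · by_cases hbt : b ∈ Tt
    · rcases hinv a hat ha1 (hE.1 a ha) with e | e | e
      · rcases hinv b hbt hb1 (hE.1 b hb) with f | f | f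
        · exact Or.inl (f.trans e.symm)
        · exact absurd f hbz
        · exact Or.inr (by rw [f, e])
      · exact absurd e haz
      · rcases hinv b hbt hb1 (hE.1 b hb) with f | f | f
        · exact Or.inr (by rw [f, e, mul_assoc, inv_self hzo, mul_one])
        · exact absurd f hbz
        · exact Or.inl (f.trans e.symm)
    · rcases hin a ha hat b hb hbt with e | e
      · exact absurd e ha1
      · exact absurd e haz
  · by_cases hbt : b ∈ Tt
    · rcases hin b hb hbt a ha hat with e | e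
      · exact absurd e hb1
      · exact absurd e hbz
    · have hab : a * b ∈ Tt := by
        refine ⟨mul_mem (hB ha) (hB hb), mem_Cz'.2 ?_⟩
        have e1 := key b hb hbt
        have e2 := key a ha hat
        rw [show a * b * t * (a * b)⁻¹ = a * (b * t * b⁻¹) * a⁻¹ by group, e1,
          show a * (t * z) * a⁻¹ = (a * t * a⁻¹) * (a * z * a⁻¹) by group, e2, mem_Cz'.1 (hle (hB ha)),
          mul_assoc, inv_self hzo, mul_one]
      rcases hin _ (mul_mem ha hb) hab a ha hat with e | e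
      · exact Or.inl (by rw [eq_inv_of_mul_eq_one_right e, inv_eq_of_mul_eq_one_right (hE.1 a ha)])
      · exact Or.inr (by rw [← e, ← mul_assoc, hE.1 a ha, one_mul])

/-- Either every centraliser of an involution is a 2-group, or the socle has 2-rank at most two. -/
theorem rank_or_cit {S : Subgroup X} (hS : Socle S) :
    CNSimple.CIT X ∨ Cfsg.PRankLE 2 2 S := by
  haveI : Fact (Nat.Prime 2) := ⟨Nat.prime_two⟩
  refine or_iff_not_imp_left.2 fun hcit => ?_
  obtain ⟨P, T, z, hz⟩ := exists_adapted hS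
  suffices key : ∀ B : Subgroup X, B ≤ (T : Subgroup X) → Elem B → Nat.card B ≤ 4 by
    intro A hAc hA2
    have hAp : IsPGroup 2 (A.map S.subtype) := by
      refine IsPGroup.map (fun a => ⟨1, ?_⟩) _
      rw [pow_one]; exact Subtype.ext (hA2 a a.2)
    obtain ⟨T', hT'⟩ := hAp.exists_le_sylow
    obtain ⟨g, hg⟩ := MulAction.exists_smul_eq X T' T
    set B := (A.map S.subtype).map (MulAut.conj g).toMonoidHom
    have hB : B ≤ (T : Subgroup X) := by
      rw [← hg, Sylow.coe_subgroup_smul]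
      exact map_mono hT'
    have hE : Elem B := by
      refine ⟨?_, ?_⟩
      · rintro _ ⟨_, ⟨a, ha, rfl⟩, rfl⟩
        rw [← map_mul, ← S.subtype.map_mul, ← pow_two, hA2 a ha, map_one, map_one]
      · rintro _ ⟨_, ⟨a, ha, rfl⟩, rfl⟩ _ ⟨_, ⟨b, hb, rfl⟩, rfl⟩
        simp only [← map_mul]
        rw [show a * b = b * a from congrArg Subtype.val (hAc.is_comm.comm ⟨a, ha⟩ ⟨b, hb⟩)]
    calc Nat.card A = Nat.card B := by
          rw [card_map_of_injective (MulAut.conj g).injective, card_map_of_injective S.subtype_injective]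
      _ ≤ 4 := key B hB hE
      _ = 2 ^ 2 := rfl
  by_cases hA : oddPart hX hz.ord = ⊥
  · unfold CNSimple.CIT at hcit
    push Not at hcit
    obtain ⟨t, ht, hnp⟩ := hcit
    have htA : oddPart hX ht ≠ ⊥ := fun e => hnp (isPGroup_Cz hX ht e)
    obtain ⟨Q⟩ := (inferInstance : Nonempty (Sylow 2 (Cz t)))
    obtain ⟨T', hT'⟩ := (Q.2.map (Cz t).subtype).exists_le_sylow
    obtain ⟨g, hg⟩ := MulAction.exists_smul_eq X T' T
    have ht' : orderOf (g * t * g⁻¹) = 2 := two_conj ht g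
    have hmap : ∀ a, g * a * g⁻¹ ∈ Cz (g * t * g⁻¹) ↔ a ∈ Cz t := fun a => by
      rw [mem_Cz, mem_Cz, show g * a * g⁻¹ * (g * t * g⁻¹) = g * (a * t) * g⁻¹ by group,
        show g * t * g⁻¹ * (g * a * g⁻¹) = g * (t * a) * g⁻¹ by group, mul_left_inj, mul_right_inj]
    have htA' : oddPart hX ht' ≠ ⊥ := by
      obtain ⟨⟨x, hx⟩, hx1⟩ := ne_bot_iff_exists_ne_one.1 htA
      refine ne_bot_iff_exists_ne_one.2 ⟨⟨g * x * g⁻¹, (hmap x).2 hx.1, ?_⟩,
        fun e => hx1 (Subtype.ext (conj_eq_one_iff.1 (congrArg Subtype.val e)))⟩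
      rw [show orderOf (g * x * g⁻¹) = orderOf x from
        orderOf_injective (MulAut.conj g).toMonoidHom (MulAut.conj g).injective x]
      exact hx.2
    have hQT : ∀ a ∈ (Q : Subgroup (Cz t)), g * (a : X) * g⁻¹ ∈ (T : Subgroup X) := fun a ha => by
      rw [← hg, Sylow.coe_subgroup_smul]
      exact ⟨a, hT' ⟨a, ha, rfl⟩, rfl⟩
    have htQ : (⟨t, self_mem_Cz t⟩ : Cz t) ∈ (Q : Subgroup (Cz t)) := by
      have hn : (zpowers (⟨t, self_mem_Cz t⟩ : Cz t)) ≤ normalizer ((Q : Subgroup (Cz t)) : Set (Cz t)) := by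
        rw [zpowers_le]
        refine centralizer_le_normalizer _ (mem_centralizer_iff.2 fun a _ => Subtype.ext (mem_Cz.1 a.2))
      have hp := IsPGroup.to_sup_of_normal_left' Q.2
        (IsPGroup.of_card (n := 1) (G := zpowers (⟨t, self_mem_Cz t⟩ : Cz t))
          (by rw [Nat.card_zpowers, orderOf_mk, ht, pow_one])) hn
      exact (Q.3 hp le_sup_left) ▸ mem_sup_right (mem_zpowers _)
    refine rank_two_case hX hz.ord hz.central hA ht' htA' (hQT _ htQ) fun R hRC hR hle => le_antisymm ?_ hle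
    have hR' : IsPGroup 2 (((R.map (MulAut.conj g).symm.toMonoidHom)).comap (Cz t).subtype) :=
      (hR.map _).comap_of_injective _ (Cz t).subtype_injective
    have hQR : (Q : Subgroup (Cz t)) ≤ (R.map (MulAut.conj g).symm.toMonoidHom).comap (Cz t).subtype := by
      intro a ha
      refine ⟨g * (a : X) * g⁻¹, hle ⟨hQT a ha, (hmap a).2 a.2⟩, ?_⟩
      simp [MulAut.conj_symm_apply, mul_assoc]
    have hEq := Q.3 hR' hQR
    intro r hr
    refine ⟨?_, hRC hr⟩
    have hr' : g⁻¹ * r * g ∈ Cz t := (hmap _).1 (by simpa [mul_assoc] using hRC hr)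
    have := hQT ⟨_, hr'⟩ (hEq ▸ ⟨r, hr, by simp [MulAut.conj_symm_apply]⟩)
    change g * (g⁻¹ * r * g) * g⁻¹ ∈ (T : Subgroup X) at this
    rwa [show g * (g⁻¹ * r * g) * g⁻¹ = r by group] at this
  · exact rank_one_case hX hS hz hA

end Cfsg.Agent.MaxNorm13
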