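import Cfsg.Agent.Lib.MaxNorm13.Rank
import Cfsg.Agent.Lib.MaxNorm13.Exclude
import Cfsg.Agent.S0516
import Cfsg.Agent.Lib.NormCyclic.CIT

/-!
The socle is `PSL(2, q)` with `q` odd.
-/

set_option autoImplicit false
set_option linter.unusedSectionVars false

namespace Cfsg.Agent.MaxNorm13

open Subgroup

universe u

variable {X : Type u} [Group X] [Finite X]

/-- The socle is `PSL(2, q)` for odd `q > 3`. -/
def OddPSL (S : Type u) [Group S] : Prop :=
  ∃ (F : Type) (_ : Field F) (_ : Fintype F), Odd (Fintype.card F) ∧ 3 < Fintype.card F ∧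
    Nonempty (S ≃* Matrix.ProjectiveSpecialLinearGroup (Fin 2) F)

theorem three_lt_card_of_equiv {S : Subgroup X} (hS : Socle S) {F : Type} [Field F] [Fintype F]
    (e : S ≃* Matrix.ProjectiveSpecialLinearGroup (Fin 2) F) : 3 < Fintype.card F := by
  haveI := hS.simple
  refine NormCyc.three_lt_card fun hs => ?_
  haveI : Group.IsSolvable S := (Components.isSolvable_congr e).2 hs
  exact hS.nab ⟨⟨fun a b => (IsSimpleGroup.comm_iff_isSolvable.2 inferInstance) a b⟩⟩

variable (hX : Hyp X)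
include hX

theorem oddPart_eq_bot {t : X} (ht : orderOf t = 2) (h : IsPGroup 2 (Cz t)) : oddPart hX ht = ⊥ := by
  refine (eq_bot_iff_forall _).2 fun x hx => ?_
  obtain ⟨k, hk⟩ := IsPGroup.iff_orderOf.1 h ⟨x, hx.1⟩
  rw [orderOf_mk] at hk
  have hodd := hx.2
  rw [hk] at hodd
  rcases Nat.eq_zero_or_pos k with rfl | hk0
  · rw [pow_zero, orderOf_eq_one_iff] at hk; exact hk
  · rw [Nat.odd_pow_iff hk0.ne'] at hodd; exact absurd hodd (by decide)

variable {S : Subgroup X} {P : Sylow 2 S} {T : Sylow 2 X} {z : X}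

theorem normalizer_sylow_socle (hS : Socle S) (hz : Adapted S P T z) (hA : oddPart hX hz.ord = ⊥) :
    normalizer (((P : Subgroup S).map S.subtype : Subgroup X) : Set X) = (T : Subgroup X) := by
  have hCz := Cz_central_eq hX hz.ord hz.central hA
  set Q := (P : Subgroup S).map S.subtype with hQ
  have hQp : IsPGroup 2 Q := P.2.map _
  haveI : Fact (Nat.Prime 2) := ⟨Nat.prime_two⟩
  haveI := hQp.isNilpotent
  have hQne : Q ≠ ⊥ := fun e =>
    ne_one_of_two hz.ord ((eq_bot_iff_forall _).1 e z (hz.inf.le ⟨hz.memT, hz.memS⟩))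
  rw [← hCz]
  refine hX.eq_of_le hz.ord ?_ (hX.not_normal inferInstance hQne)
  rw [hCz, hQ, ← hz.inf]
  intro g hg
  have key : ∀ h ∈ (T : Subgroup X), ∀ a ∈ (T : Subgroup X) ⊓ S, h * a * h⁻¹ ∈ (T : Subgroup X) ⊓ S :=
    fun h hh a ha => Subgroup.mem_inf.2 ⟨mul_mem (mul_mem hh ha.1) ((T : Subgroup X).inv_mem hh),
      hS.normal.conj_mem a ha.2 h⟩
  refine mem_normalizer_iff.2 fun a => ⟨key g hg a, fun ha => ?_⟩
  have := key g⁻¹ ((T : Subgroup X).inv_mem hg) _ ha
  rwa [show g⁻¹ * (g * a * g⁻¹) * g⁻¹⁻¹ = a by group] at this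

theorem mem_T_of_normalizer (hS : Socle S) (hz : Adapted S P T z) (hA : oddPart hX hz.ord = ⊥) {g : S}
    (hg : g ∈ normalizer ((P : Subgroup S) : Set S)) : (g : X) ∈ (T : Subgroup X) := by
  rw [← normalizer_sylow_socle hX hS hz hA]
  refine mem_normalizer_iff.2 fun a => ⟨?_, ?_⟩
  · rintro ⟨b, hb, rfl⟩
    exact ⟨g * b * g⁻¹, (mem_normalizer_iff.1 hg b).1 hb, rfl⟩
  · rintro ⟨b, hb, e⟩
    refine ⟨g⁻¹ * b * g, (mem_normalizer_iff.1 hg _).2 (by rwa [show g * (g⁻¹ * b * g) * g⁻¹ = b by group]), ?_⟩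
    simp only [map_mul, map_inv, e, coe_subtype]
    group

theorem self_normalizing (hS : Socle S) (hz : Adapted S P T z) (hA : oddPart hX hz.ord = ⊥) :
    normalizer ((P : Subgroup S) : Set S) = (P : Subgroup S) := by
  refine le_antisymm (fun g hg => ?_) le_normalizer
  have h : (g : X) ∈ (T : Subgroup X) ⊓ S := ⟨mem_T_of_normalizer hX hS hz hA hg, g.2⟩
  rw [hz.inf] at h
  obtain ⟨b, hb, e⟩ := h
  exact (Subtype.ext e : b = g) ▸ hb

theorem cit_case (hS : Socle S) (hc : CNSimple.CIT X) : OddPSL S := by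
  haveI : Fact (Nat.Prime 2) := ⟨Nat.prime_two⟩
  haveI := hS.simple
  obtain ⟨P, T, z, hz⟩ := exists_adapted hS
  have hA := oddPart_eq_bot hX hz.ord (hc z hz.ord)
  have hself := self_normalizing hX hS hz hA
  have hcS : CNSimple.CIT S := fun t ht => by
    have h := hc (t : X) (by rw [orderOf_coe, ht])
    rintro ⟨g, hg⟩
    obtain ⟨k, hk⟩ := h ⟨(g : X), mem_Cz.2 (congrArg Subtype.val (mem_centralizer_singleton_iff.1 hg))⟩
    exact ⟨k, Subtype.ext (Subtype.ext (congrArg Subtype.val hk :))⟩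
  have hna : ∃ a b : S, a * b ≠ b * a := by
    by_contra hcon
    push Not at hcon
    exact hS.nab ⟨⟨hcon⟩⟩
  rcases CNSimple.cit_simple hna hcS with ⟨K, hK⟩ | ⟨F, i1, i2, hq, he⟩ | ⟨F, i1, i2, hF, ⟨e⟩⟩
  · exfalso
    haveI := hK.good.nil
    obtain ⟨T1, hT1⟩ := hK.good.sylow 2 Nat.prime_two hK.even
    obtain ⟨g, hg⟩ := MulAction.exists_smul_eq S T1 P
    obtain ⟨w, hw, hwo⟩ : ∃ w ∈ (T1 : Subgroup S), orderOf w = 2 := by
      obtain ⟨w, hw⟩ := exists_prime_orderOf_dvd_card' (G := (T1 : Subgroup S)) 2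
        (T1.dvd_card_of_dvd_card (even_iff_two_dvd.1 (Nat.not_odd_iff_even.1 (AlperinRankTwo.not_odd hS.nab))))
      exact ⟨w, w.2, by rw [orderOf_coe, hw]⟩
    have hN1 : normalizer ((T1 : Subgroup S) : Set S) = (T1 : Subgroup S) := by
      refine le_antisymm (fun a ha => ?_) le_normalizer
      have hT1P : ∀ b, b ∈ (T1 : Subgroup S) ↔ g * b * g⁻¹ ∈ (P : Subgroup S) := fun b => by
        rw [← hg, Sylow.coe_subgroup_smul]
        exact (smul_mem_pointwise_smul_iff (a := MulAut.conj g)).symm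
      have : g * a * g⁻¹ ∈ normalizer ((P : Subgroup S) : Set S) := by
        refine mem_normalizer_iff.2 fun b => ?_
        have h := mem_normalizer_iff.1 ha (g⁻¹ * b * g)
        rw [hT1P, hT1P] at h
        simpa [mul_assoc] using h
      rw [hself] at this
      exact (hT1P a).2 this
    have hKT : K = (T1 : Subgroup S) := by
      refine le_antisymm ?_ hT1
      rw [← hN1]
      intro k hk
      haveI hn : ((T1.subtype hT1 : Sylow 2 K) : Subgroup K).Normal := inferInstance
      refine mem_normalizer_iff.2 fun a => ⟨fun ha => ?_, fun ha => ?_⟩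
      · exact hn.conj_mem ⟨a, hT1 ha⟩ ha ⟨k, hk⟩
      · have hka : a ∈ K := by
          have := mul_mem (mul_mem (inv_mem hk) (hT1 ha)) hk
          simpa [mul_assoc] using this
        have := hn.conj_mem ⟨k * a * k⁻¹, hT1 ha⟩ ha ⟨k⁻¹, inv_mem hk⟩
        simpa [mul_assoc, mem_subgroupOf] using this
    obtain ⟨c, hc', hco, hcc⟩ := hK.exists_central
    have huni : ∀ t ∈ (T1 : Subgroup S), orderOf t = 2 → t = c := by
      intro t htT ht
      obtain ⟨h, hh⟩ := isConj_iff.1 (hK.isConj hco ht)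
      have hhN := hK.mem_N_of_meet hc' (ne_one_of_two hco) (hh ▸ (hT1 htT))
      have hhK : h ∈ K := by
        have : h ∈ normalizer (K : Set S) := hhN
        rwa [hKT, hN1, ← hKT] at this
      rw [← hh, (mem_centralizer_singleton_iff.1 (hcc hhK)), mul_inv_cancel_right]
    refine AlperinRankTwo.not_prankLE_one T1 (AlperinRankTwo.not_rank_one hS.nab) fun A hAc hA2 => ?_
    have : (A : Set (T1 : Subgroup S)) ⊆ {a | (a : S) = 1 ∨ (a : S) = c} := by
      intro a ha
      by_cases h1 : (a : S) = 1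
      · exact Or.inl h1
      · exact Or.inr (huni _ a.2 (orderOf_eq_prime (congrArg Subtype.val (hA2 a ha)) h1))
    calc Nat.card A ≤ Nat.card ({a | (a : S) = 1 ∨ (a : S) = c} : Set (T1 : Subgroup S)) :=
          Nat.card_mono (Set.toFinite _) this
      _ ≤ Nat.card ({1, c} : Set S) := Nat.card_le_card_of_injective (fun a => ⟨(a : (T1 : Subgroup S)), by simpa using a.2⟩)
          fun a b e => Subtype.ext (Subtype.ext (congrArg Subtype.val e :))
      _ ≤ 2 ^ 1 := by rw [Nat.card_coe_set_eq]; exact (Set.ncard_insert_le _ _).trans (by simp)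
  · obtain ⟨e⟩ := he
    have h3 := three_lt_card_of_equiv hS e
    refine ⟨F, i1, i2, ?_, h3, ⟨e⟩⟩
    rcases hq with h | ⟨hp, -⟩
    · rw [h]; decide
    · exact hp.odd_of_ne_two (by omega)
  · exfalso
    obtain ⟨Q, g, hgN, hgQ⟩ := l34_sylow hF
    set Q' : Sylow 2 S := Q.comapOfInjective e.toMonoidHom e.injective (by
      intro a _; exact ⟨e.symm a, e.apply_symm_apply a⟩) with hQ'
    obtain ⟨h, hh⟩ := MulAction.exists_smul_eq S Q' P
    have hg' : e.symm g ∈ normalizer ((Q' : Subgroup S) : Set S) := by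
      refine mem_normalizer_iff.2 fun a => ?_
      show e a ∈ (Q : Subgroup _) ↔ e (e.symm g * a * (e.symm g)⁻¹) ∈ (Q : Subgroup _)
      rw [map_mul, map_mul, map_inv, e.apply_symm_apply]
      exact mem_normalizer_iff.1 hgN (e a)
    have hmem : h * e.symm g * h⁻¹ ∈ normalizer ((P : Subgroup S) : Set S) := by
      refine mem_normalizer_iff.2 fun b => ?_
      have hiff : ∀ b, b ∈ (P : Subgroup S) ↔ h⁻¹ * b * h ∈ (Q' : Subgroup S) := fun b => by
        rw [← hh, Sylow.coe_subgroup_smul, mem_pointwise_smul_iff_inv_smul_mem]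
        simp
      rw [hiff, hiff, show h⁻¹ * (h * e.symm g * h⁻¹ * b * (h * e.symm g * h⁻¹)⁻¹) * h =
        e.symm g * (h⁻¹ * b * h) * (e.symm g)⁻¹ by group]
      exact mem_normalizer_iff.1 hg' _
    rw [hself, ← hh, Sylow.coe_subgroup_smul, mem_pointwise_smul_iff_inv_smul_mem] at hmem
    refine hgQ ?_
    have : e (e.symm g) ∈ (Q : Subgroup _) := by
      have h2 : e.symm g ∈ (Q' : Subgroup S) := by simpa [mul_assoc] using hmem
      exact h2
    rwa [e.apply_symm_apply] at this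

theorem qd_wr_false (hS : Socle S) (P : Sylow 2 S)
    (hP : Cfsg.IsQuasiDihedral (P : Subgroup S) ∨ Cfsg.IsWreathed (P : Subgroup S)) : False := by
  haveI := hS.simple
  obtain ⟨P', T, z, hz⟩ := exists_adapted hS
  refine not_two_group_mod_core hS.nab P hP (⟨z, hz.memS⟩ : S) (by rw [orderOf_mk, hz.ord]) ?_
  set C := centralizer ({(⟨z, hz.memS⟩ : S)} : Set S) with hC
  intro g
  let f : C →* X := S.subtype.comp C.subtype
  have hfC : ∀ a : C, f a ∈ Cz z := fun a =>
    mem_Cz.2 (congrArg Subtype.val (mem_centralizer_singleton_iff.1 a.2))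
  let O := (oddPart hX hz.ord).comap f
  have hfinj : Function.Injective f := S.subtype_injective.comp C.subtype_injective
  haveI : O.Normal := ⟨fun a ha b => by
    show f (b * a * b⁻¹) ∈ oddPart hX hz.ord
    rw [map_mul, map_mul, map_inv]
    exact conj_oddPart hX hz.ord (hfC b) ha⟩
  have hO : (Nat.card O).Coprime 2 := by
    refine Nat.Coprime.coprime_dvd_left ?_ (Nat.coprime_two_right.2 (odd_card_oddPart hX hz.ord))
    rw [← Subgroup.card_map_of_injective (K := O) hfinj]
    exact card_dvd_of_le (map_comap_le _ _)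
  obtain ⟨a, m, hm, e⟩ := Nat.exists_eq_two_pow_mul_odd (orderOf_pos (f g)).ne'
  refine ⟨a, SetLike.le_def.1 (le_sSup (show O ∈ {N : Subgroup C | N.Normal ∧ (Nat.card N).Coprime 2} from
    ⟨inferInstance, hO⟩)) ?_⟩
  show f (g ^ 2 ^ a) ∈ oddPart hX hz.ord
  rw [map_pow]
  exact ⟨pow_mem (hfC g) _, Odd.of_dvd_nat hm
    (orderOf_dvd_of_pow_eq_one (by rw [← pow_mul, ← e, pow_orderOf_eq_one]))⟩

theorem commInvol_false (hS : Socle S) (hP : ∀ P : Sylow 2 S, CommInvol ↥(P : Subgroup S)) : False := by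
  haveI := hS.simple
  haveI : Fact (Nat.Prime 2) := ⟨Nat.prime_two⟩
  obtain ⟨P, T, z, hz⟩ := exists_adapted hS
  refine AlperinRankTwo.not_weakly_closed hS.nab P (u := ⟨z, hz.memS⟩) (by rw [orderOf_mk, hz.ord]) hz.memP
    fun g hg => ?_
  set u : S := g * ⟨z, hz.memS⟩ * g⁻¹ with hu
  have huo : orderOf u = 2 := two_conj (by rw [orderOf_mk, hz.ord]) g
  obtain ⟨hucen, x, y, hxy⟩ := hP P ⟨u, hg⟩ (fun e => ne_one_of_two huo (congrArg Subtype.val e))
    (Subtype.ext (inv_self huo))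
  by_cases hA : oddPart hX hz.ord = ⊥
  · have hcen : ∀ w : S, ∀ hw : w ∈ (P : Subgroup S), (⟨w, hw⟩ : (P : Subgroup S)) ∈ center (P : Subgroup S) →
        w ∈ centralizer ((P : Subgroup S) : Set S) := fun w hw hc =>
      mem_centralizer_iff.2 fun b hb => congrArg Subtype.val (mem_center_iff.1 hc ⟨b, hb⟩)
    have hzc : (⟨z, hz.memS⟩ : S) ∈ centralizer ((P : Subgroup S) : Set S) := by
      refine mem_centralizer_iff.2 fun b hb => Subtype.ext (mem_Cz.1 (hz.central ?_))
      exact (hz.inf.ge ⟨b, hb, rfl⟩).1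
    obtain ⟨n, hn, e⟩ := P.conj_eq_normalizer_conj_of_mem_centralizer (⟨z, hz.memS⟩ : S) g⁻¹ hzc
      (by rw [inv_inv]; exact hcen u hg hucen)
    rw [inv_inv] at e
    refine (e.trans ?_)
    have hnT := mem_T_of_normalizer hX hS hz hA (inv_mem hn)
    refine Subtype.ext ?_
    have := mem_Cz'.1 (hz.central hnT)
    simpa using this
  · refine Subtype.ext (unique_central hX hS hz hA (by rw [← huo, orderOf_coe]) ?_)
    obtain ⟨⟨a, ha⟩, ha1⟩ := ne_bot_iff_exists_ne_one.1 hA
    refine Cz_eq_of_commute hX hz.ord (by rw [← huo, orderOf_coe]) ha (fun e => ha1 (Subtype.ext e)) ?_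
    have hmem : ∀ w : (P : Subgroup S), ((w : S) : X) ∈ Cz z := fun w =>
      hz.central (hz.inf.ge ⟨w, w.2, rfl⟩).1
    obtain ⟨i, hi⟩ := hX.conj_odd hz.ord ha.1 ha.2 (hmem x)
    obtain ⟨j, hj⟩ := hX.conj_odd hz.ord ha.1 ha.2 (hmem y)
    simp only at hi hj
    have hcm : ∀ (p q : X) (i j : ℤ), a ^ i = p * a * p⁻¹ → a ^ j = q * a * q⁻¹ →
        p * q * a * (p * q)⁻¹ = a ^ (i * j) := by
      intro p q i j h1 h2
      rw [show p * q * a * (p * q)⁻¹ = p * (q * a * q⁻¹) * p⁻¹ by group, ← h2, ← conj_zpow, ← h1, zpow_mul]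
    have h1 := hcm _ _ i j hi hj
    have h2 := hcm _ _ j i hj hi
    rw [mul_comm j i, ← h1] at h2
    set p : X := ((x : S) : X)
    set q : X := ((y : S) : X)
    have hux : (u : X) = p * q * p⁻¹ * q⁻¹ := congrArg (fun w : (P : Subgroup S) => ((w : S) : X)) hxy.symm
    show a * (u : X) = (u : X) * a
    rw [hux]
    obtain ⟨k, hk⟩ := hX.conj_odd hz.ord ha.1 ha.2 (inv_mem (mul_mem (hmem y) (hmem x)))
    simp only [inv_inv] at hk
    change a ^ k = (q * p)⁻¹ * a * (q * p) at hk
    have h3 : p * q * a ^ k * (p * q)⁻¹ = q * p * a ^ k * (q * p)⁻¹ := by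
      rw [← conj_zpow, ← conj_zpow, h2]
    rw [hk] at h3
    have h4 : q * p * ((q * p)⁻¹ * a * (q * p)) * (q * p)⁻¹ = a := by group
    rw [h4] at h3
    have h5 : p * q * p⁻¹ * q⁻¹ * a * (p * q * p⁻¹ * q⁻¹)⁻¹ = a := by
      refine Eq.trans ?_ h3
      group
    exact (mul_inv_eq_iff_eq_mul.1 h5).symm

/-- The Sylow subgroup is never that of `PSU(3, 4)`; the socle is `PSL(2, q)`, `q` odd. -/
theorem socle_oddPSL (hS : Socle S) : OddPSL S := by
  haveI := hS.simple
  rcases rank_or_cit hX hS with hc | h2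
  · exact cit_case hX hS hc
  haveI : Fintype (GaloisField 2 4) := Fintype.ofFinite _
  have hF : Fintype.card (GaloisField 2 4) = 16 := by
    rw [← Nat.card_eq_fintype_card, GaloisField.card 2 4 (by norm_num)]; norm_num
  obtain ⟨U⟩ := (inferInstance : Nonempty (Sylow 2 (Cfsg.PSU 3 (GaloisField 2 4) 4)))
  obtain ⟨P⟩ := (inferInstance : Nonempty (Sylow 2 S))
  rcases S0516.result hS.nab h2 P hF U with ⟨n, hn, hd⟩ | h | h | he
  · rcases GW.simpleDihedral S P n hn hd with h | he
    · exact h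
    · obtain ⟨e⟩ := he
      exfalso
      set t : alternatingGroup (Fin 7) :=
        ⟨Equiv.swap 0 1 * Equiv.swap 2 3, Equiv.Perm.mem_alternatingGroup.2 (by decide)⟩ with htdef
      set x : alternatingGroup (Fin 7) :=
        ⟨Equiv.swap 4 5 * Equiv.swap 5 6, Equiv.Perm.mem_alternatingGroup.2 (by decide)⟩ with hxdef
      set y : alternatingGroup (Fin 7) :=
        ⟨Equiv.swap 0 1 * Equiv.swap 1 2, Equiv.Perm.mem_alternatingGroup.2 (by decide)⟩ with hydef
      set f : alternatingGroup (Fin 7) →* X := S.subtype.comp e.symm.toMonoidHom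
      have hf : Function.Injective f := S.subtype_injective.comp e.symm.injective
      have hto : orderOf (f t) = 2 := by
        rw [orderOf_injective f hf]
        exact orderOf_eq_prime (by rw [htdef]; decide) (by rw [htdef]; decide)
      have hx : f x ∈ oddPart hX hto := by
        refine ⟨mem_Cz.2 ?_, ?_⟩
        · rw [← map_mul, ← map_mul]; congr 1; rw [htdef, hxdef]; decide
        · rw [orderOf_injective f hf]
          haveI : Fact (Nat.Prime 3) := ⟨Nat.prime_three⟩
          rw [orderOf_eq_prime (p := 3) (by rw [hxdef]; decide) (by rw [hxdef]; decide)]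
          decide
      have hy : f y ∈ Cz (f t) := by
        refine centralizer_odd_le hX hto hx (fun e => ?_) (mem_Cz.2 ?_)
        · have := hf (e.trans (map_one f).symm)
          rw [hxdef] at this
          exact absurd this (by decide)
        · rw [← map_mul, ← map_mul]; congr 1; rw [hydef, hxdef]; decide
      rw [mem_Cz, ← map_mul, ← map_mul] at hy
      have := hf hy
      rw [hydef, htdef] at this
      exact absurd this (by decide)
  · exact (qd_wr_false hX hS P (Or.inl h)).elim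
  · exact (qd_wr_false hX hS P (Or.inr h)).elim
  · obtain ⟨e⟩ := he
    refine (commInvol_false hX hS fun Q => ?_).elim
    exact CommInvol.of_equiv ((Q.equiv P).trans e) (commInvol_psu hF U)

end Cfsg.Agent.MaxNorm13
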