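import Cfsg.Agent.Lib.MaxNorm13.Torus
import Cfsg.Agent.Lib.PSL2Binary.FourGroups
import Cfsg.Agent.S0276
import Cfsg.Agent.S2475
import Cfsg.Agent.S5892

/-!
With a dihedral subgroup of order 12 the group is simple, and it is not `PSL(2, 11)`.
-/

set_option autoImplicit false
set_option linter.unusedSectionVars false

namespace Cfsg.Agent.MaxNorm13

open Subgroup

universe u

variable {X : Type u} [Group X] [Finite X]

theorem two_ne_zero_of_odd_card {F : Type} [Field F] [Fintype F] (h : Odd (Fintype.card F)) : (2 : F) ≠ 0 := by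
  refine Ring.two_ne_zero fun h2 => ?_
  haveI := ringChar.charP F
  obtain ⟨n, -, hn⟩ := FiniteField.card F (ringChar F)
  rw [hn, h2, Nat.odd_pow_iff n.ne_zero] at h
  exact absurd h (by decide)

theorem klein_socle {S : Subgroup X} {F : Type} [Field F] [Fintype F]
    (hF : Fintype.card F % 8 = 3 ∨ Fintype.card F % 8 = 5)
    (e : S ≃* Matrix.ProjectiveSpecialLinearGroup (Fin 2) F) (P : Sylow 2 S) :
    Nat.card ((P : Subgroup S).map S.subtype) = 4 ∧ Elem ((P : Subgroup S).map S.subtype) := by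
  haveI : Fact (Nat.Prime 2) := ⟨Nat.prime_two⟩
  haveI hK := S0276.result rfl hF (P.mapSurjective (f := e.toMonoidHom) e.surjective)
  have h4 : Nat.card ((P : Subgroup S).map e.toMonoidHom) = 4 := hK.card_four
  have hsq : ∀ a ∈ (P : Subgroup S), a * a = 1 := fun a ha => e.injective (by
    rw [map_mul, map_one]
    exact congrArg Subtype.val (IsKleinFour.mul_self
      (⟨e a, mem_map_of_mem e.toMonoidHom ha⟩ :
        ((P.mapSurjective (f := e.toMonoidHom) e.surjective : Sylow 2 _) : Subgroup _))))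
  refine ⟨?_, ?_, ?_⟩
  · rw [card_map_of_injective S.subtype_injective, ← h4, card_map_of_injective e.injective]
  · rintro _ ⟨a, ha, rfl⟩
    rw [← map_mul, hsq a ha, map_one]
  · rintro _ ⟨a, ha, rfl⟩ _ ⟨b, hb, rfl⟩
    rw [← map_mul, ← map_mul]
    congr 1
    have hi : ∀ c ∈ (P : Subgroup S), c⁻¹ = c := fun c hc => inv_eq_of_mul_eq_one_right (hsq c hc)
    calc a * b = (a * b)⁻¹ := (hi _ (mul_mem ha hb)).symm
      _ = b * a := by rw [mul_inv_rev, hi a ha, hi b hb]

theorem zmod_five_pow : ∀ b : ZMod 5, b ^ 11 - 1 = 0 → b - 1 = 0 := by decide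

variable (hX : Hyp X)
include hX

theorem six_top {S : Subgroup X} (hS : Socle S) {F : Type} [Field F] [Fintype F]
    (hF : Fintype.card F = 11 ∨ Fintype.card F = 13)
    (e : S ≃* Matrix.ProjectiveSpecialLinearGroup (Fin 2) F) (φ : DihedralGroup 6 →* X)
    (hφ : Function.Injective φ) (hmem : ∀ a, φ a ∈ S) : S = ⊤ := by
  haveI := hS.simple
  haveI := hS.normal
  haveI : Fact (Nat.Prime 2) := ⟨Nat.prime_two⟩
  obtain ⟨P, T, z, hz⟩ := exists_adapted hS
  obtain ⟨hP4, hPE⟩ := klein_socle (by rcases hF with h | h <;> rw [h] <;> norm_num) e P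
  have hodd : Odd (Fintype.card F) := by rcases hF with h | h <;> rw [h] <;> decide
  have h2 := two_ne_zero_of_odd_card hodd
  -- move the central involution of the dihedral group onto `z`
  obtain ⟨g, hg⟩ : ∃ g : X, g ∈ S ∧ g * φ (DihedralGroup.r 3) * g⁻¹ = z := by
    have ha : φ (DihedralGroup.r 3) * φ (DihedralGroup.r 3) = 1 := by rw [← map_mul, ← map_one φ]; congr 1
    have ha1 : φ (DihedralGroup.r 3) ≠ 1 := fun h => absurd (hφ (h.trans (map_one φ).symm)) (by decide)
    obtain ⟨g, hg⟩ := PSL2Binary.exists_conj_involution h2 (a := e ⟨_, hmem (DihedralGroup.r 3)⟩)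
      (b := e ⟨z, hz.memS⟩) (by rw [← map_mul, ← map_one e]; exact congrArg e (Subtype.ext ha))
      (fun h => ha1 (congrArg Subtype.val (e.injective (h.trans (map_one e).symm))))
      (by rw [← map_mul, ← map_one e]; exact congrArg e (Subtype.ext (inv_self hz.ord)))
      (fun h => ne_one_of_two hz.ord (congrArg Subtype.val (e.injective (h.trans (map_one e).symm))))
    refine ⟨emb e g, emb_mem e g, ?_⟩
    have := congrArg (emb e) hg
    simpa [map_mul, map_inv] using this
  let ψ : DihedralGroup 6 →* X := (MulAut.conj g).toMonoidHom.comp φ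
  have hψ : Function.Injective ψ := (MulAut.conj g).injective.comp hφ
  have hψS : ∀ a, ψ a ∈ S := fun a => hS.normal.conj_mem _ (hmem a) g
  have hψz : ψ (DihedralGroup.r 3) = z := hg.2
  have hψc : ∀ a, a * DihedralGroup.r 3 = DihedralGroup.r 3 * a → ψ a ∈ Cz z := fun a ha => by
    rw [mem_Cz, ← hψz, ← map_mul, ← map_mul, ha]
  have hA : oddPart hX hz.ord ≠ ⊥ := by
    refine fun h => absurd (hψ ?_) (show (DihedralGroup.r 2 : DihedralGroup 6) ≠ 1 by decide)
    refine ((eq_bot_iff_forall _).1 h _ ⟨hψc _ (by decide), ?_⟩).trans (map_one ψ).symm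
    haveI : Fact (Nat.Prime 3) := ⟨Nat.prime_three⟩
    rw [orderOf_injective ψ hψ, orderOf_eq_prime (p := 3) (by decide) (by decide)]
    decide
  -- the odd part lies in the socle
  have hAS : oddPart hX hz.ord ≤ S := by
    intro b hb
    set w := ψ (DihedralGroup.sr 0) with hw
    have hwo : orderOf w = 2 := by rw [hw, orderOf_injective ψ hψ, DihedralGroup.orderOf_sr]
    have hwz : w ≠ z := fun h => absurd (hψ (h.trans hψz.symm)) (by decide)
    have hinv := inverts hX hz.ord hwo (hψc _ (by decide))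
      (fun h => hwz (unique_central hX hS hz hA hwo h)) hb
    have hb2 : b * b ∈ S := by
      have hbb : b * b = b * (w * b⁻¹ * w⁻¹) := by
        rw [inverts hX hz.ord hwo (hψc _ (by decide)) (fun h => hwz (unique_central hX hS hz hA hwo h))
          (inv_mem hb), inv_inv]
      rw [hbb, ← mul_assoc, ← mul_assoc]
      exact mul_mem (hS.normal.conj_mem _ (hψS _) b) (inv_mem (hψS _))
    obtain ⟨j, hj⟩ := hb.2
    have hb1 : b = ((b * b) ^ j)⁻¹ := by
      refine eq_inv_of_mul_eq_one_left ?_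
      rw [← pow_two, ← pow_mul, ← pow_succ', ← hj, pow_orderOf_eq_one]
    rw [hb1]
    exact inv_mem (pow_mem hb2 j)
  -- an element of odd order normalising the Sylow subgroup of the socle and moving `z`
  set Q : Subgroup X := (P : Subgroup S).map S.subtype with hQ
  have hQT : Q ≤ (T : Subgroup X) := fun a ha => (hz.inf.ge ha).1
  have hQp : IsPGroup 2 Q := P.2.map _
  have hzQ : z ∈ Q := ⟨_, hz.memP, rfl⟩
  obtain ⟨n, hnN, hnz⟩ : ∃ n ∈ normalizer (Q : Set X), n ∈ S ∧ n ∉ Cz z := by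
    by_contra hcon
    push Not at hcon
    refine AlperinRankTwo.not_weakly_closed hS.nab P (u := ⟨z, hz.memS⟩) (by rw [orderOf_mk, hz.ord]) hz.memP
      fun a ha => ?_
    have hcen : ∀ v : S, v ∈ (P : Subgroup S) → v ∈ centralizer ((P : Subgroup S) : Set S) := fun v hv =>
      mem_centralizer_iff.2 fun c hc => Subtype.ext (hPE.2 _ ⟨c, hc, rfl⟩ _ ⟨v, hv, rfl⟩)
    obtain ⟨m, hm, e⟩ := P.conj_eq_normalizer_conj_of_mem_centralizer (⟨z, hz.memS⟩ : S) a⁻¹
      (hcen _ hz.memP) (by rw [inv_inv]; exact hcen _ ha)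
    rw [inv_inv] at e
    refine e.trans (Subtype.ext ?_)
    have hm' : ((m⁻¹ : S) : X) ∈ normalizer (Q : Set X) := by
      refine mem_normalizer_fintype fun c hc => ?_
      obtain ⟨c, hc, rfl⟩ := hc
      exact ⟨m⁻¹ * c * m⁻¹⁻¹, (mem_normalizer_iff.1 (inv_mem hm) c).1 hc, rfl⟩
    have := mem_Cz'.1 (hcon _ hm' (m⁻¹).2)
    simpa using this
  obtain ⟨k, l, hl, hkl⟩ := Nat.exists_eq_two_pow_mul_odd (orderOf_pos n).ne'
  set y := n ^ 2 ^ k with hy
  have hyo : Odd (orderOf y) :=
    Odd.of_dvd_nat hl (orderOf_dvd_of_pow_eq_one (by rw [hy, ← pow_mul, ← hkl, pow_orderOf_eq_one]))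
  have hyN : y ∈ normalizer (Q : Set X) := pow_mem hnN _
  have hyS : y ∈ S := pow_mem hnz.1 _
  have hyz : y ∉ Cz z := by
    intro hyc
    refine hnz.2 ?_
    have hnl : n ^ l ∈ Cz z := by
      have hmem2 : n ^ l ∈ Q := by
        have hp : IsPGroup 2 ↥(Q ⊔ zpowers (n ^ l)) := by
          refine IsPGroup.to_sup_of_normal_left' hQp ?_ (zpowers_le.2 (pow_mem hnN _))
          refine fun a => ⟨k, Subtype.ext ?_⟩
          obtain ⟨i, hi⟩ := mem_zpowers_iff.1 a.2
          have h1 : (n ^ l) ^ 2 ^ k = 1 := by rw [← pow_mul, mul_comm, ← hkl, pow_orderOf_eq_one]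
          rw [coe_pow, ← hi, ← zpow_natCast, ← zpow_mul, mul_comm, zpow_mul, zpow_natCast, h1, one_zpow, coe_one]
        have hle : Q ⊔ zpowers (n ^ l) ≤ S :=
          sup_le (map_subtype_le _) (zpowers_le.2 (pow_mem hnz.1 _))
        have := P.3 (hp.comap_of_injective S.subtype S.subtype_injective)
          fun a ha => mem_sup_left ⟨a, ha, rfl⟩
        have hin : (⟨n ^ l, pow_mem hnz.1 _⟩ : S) ∈ (P : Subgroup S) :=
          this ▸ mem_sup_right (mem_zpowers _)
        exact ⟨_, hin, rfl⟩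
      exact hz.central (hQT hmem2)
    have hcop : (2 ^ k).Coprime l := (Nat.coprime_two_left.2 hl).pow_left k
    obtain ⟨a, b, hab⟩ : ∃ a b : ℤ, (1 : ℤ) = (2 ^ k : ℕ) * a + (l : ℕ) * b := by
      refine ⟨Int.gcdA (2 ^ k : ℕ) l, Int.gcdB (2 ^ k : ℕ) l, ?_⟩
      rw [← Int.gcd_eq_gcd_ab, Int.gcd_natCast_natCast, hcop.gcd_eq_one]
      rfl
    rw [← zpow_one n, hab, zpow_add, zpow_mul, zpow_mul, zpow_natCast, zpow_natCast]
    exact mul_mem (zpow_mem hyc _) (zpow_mem hnl _)
  set z' := y * z * y⁻¹ with hz'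
  have hz'Q : z' ∈ Q := (mem_normalizer_iff.1 hyN z).1 hzQ
  have hz'z : z' ≠ z := fun h => hyz (mem_Cz'.2 h)
  have hQcard : ∀ v ∈ Q, v = 1 ∨ v = z ∨ v = z' ∨ v = z * z' := by
    classical
    have hzz' : z * z' ∈ Q := mul_mem hzQ hz'Q
    have hsub : ({1, z, z', z * z'} : Set X) ⊆ (Q : Set X) := by
      rintro v (rfl | rfl | rfl | rfl)
      · exact one_mem Q
      · exact hzQ
      · exact hz'Q
      · exact hzz'
    have h1 : z * z' ≠ 1 := fun h => hz'z (by
      rw [eq_inv_of_mul_eq_one_right h, inv_eq_of_mul_eq_one_right (inv_self hz.ord)])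
    have hzne := ne_one_of_two hz.ord
    have hz'1 : z' ≠ 1 := fun h => hzne (conj_eq_one_iff.1 h)
    have hc4 : ({1, z, z', z * z'} : Set X).ncard = 4 := by
      rw [Set.ncard_eq_toFinset_card' ]
      simp only [Set.toFinset_insert, Set.toFinset_singleton]
      rw [Finset.card_insert_of_notMem, Finset.card_insert_of_notMem, Finset.card_insert_of_notMem,
        Finset.card_singleton]
      · simp only [Finset.mem_singleton]
        exact fun h => hzne (mul_eq_right.1 h.symm)
      · simp only [Finset.mem_insert, Finset.mem_singleton, not_or]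
        exact ⟨Ne.symm hz'z, fun h => hz'1 (mul_eq_left.1 h.symm)⟩
      · simp only [Finset.mem_insert, Finset.mem_singleton, not_or]
        exact ⟨Ne.symm hzne, Ne.symm hz'1, Ne.symm h1⟩
    have heq : ({1, z, z', z * z'} : Set X) = (Q : Set X) :=
      Set.eq_of_subset_of_ncard_le hsub (by rw [hc4, ← Nat.card_coe_set_eq]; exact hP4.le) (Set.toFinite _)
    intro v hv
    have : v ∈ ({1, z, z', z * z'} : Set X) := heq ▸ hv
    simpa using this
  have hfix : ∀ v ∈ Q, y * v * y⁻¹ = v → v = 1 := by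
    intro v hv hfv
    by_contra hv1
    have hvz : v ≠ z := fun h => hz'z (by rw [hz', ← h]; exact hfv)
    have h1 : z' = z * v := by
      rcases hQcard v hv with h | h | h | h
      · exact absurd h hv1
      · exact absurd h hvz
      · have h2 : y * z * y⁻¹ = y * v * y⁻¹ := by rw [hfv, h]
        exact absurd (mul_left_cancel (mul_right_cancel h2)).symm hvz
      · rw [h, ← mul_assoc, inv_self hz.ord, one_mul]
    have h2 : y ^ 2 ∈ Cz z := by
      rw [mem_Cz', pow_two, show y * y * z * (y * y)⁻¹ = y * (y * z * y⁻¹) * y⁻¹ by group, ← hz', h1,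
        show y * (z * v) * y⁻¹ = (y * z * y⁻¹) * (y * v * y⁻¹) by group, hfv, ← hz', h1, mul_assoc,
        hPE.1 v hv, mul_one]
    obtain ⟨j, hj⟩ := hyo
    refine hyz ?_
    have : y = ((y ^ 2) ^ j)⁻¹ := eq_inv_of_mul_eq_one_left (by
      rw [← pow_mul, ← pow_succ', ← hj, pow_orderOf_eq_one])
    rw [this]
    exact inv_mem (pow_mem h2 j)
  -- `y` normalises the Sylow subgroup of the whole group
  have hTne : (T : Subgroup X) ≠ ⊥ := fun h => ne_one_of_two hz.ord ((eq_bot_iff_forall _).1 h z hz.memT)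
  have hQne : Q ≠ ⊥ := fun h => ne_one_of_two hz.ord ((eq_bot_iff_forall _).1 h z hzQ)
  have hNT : y ∈ normalizer ((T : Subgroup X) : Set X) := by
    have hle : normalizer ((T : Subgroup X) : Set X) ≤ normalizer (Q : Set X) := by
      intro a ha
      refine mem_normalizer_fintype fun c hc => ?_
      replace hc := hz.inf.ge hc
      exact hz.inf.le ⟨(mem_normalizer_iff.1 ha c).1 hc.1, hS.normal.conj_mem _ hc.2 a⟩
    have hne : normalizer (Q : Set X) ≠ ⊤ := by
      haveI := hQp.isNilpotent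
      exact hX.not_normal inferInstance hQne
    rw [← ((hX.coatom_pgroup Nat.prime_two T.2 hTne).le_iff.1 hle).resolve_left hne]
    exact hyN
  have hTS : (T : Subgroup X) ≤ S := by
    intro t ht
    by_contra htS
    have hw : y * t * y⁻¹ * t⁻¹ ∈ Q := by
      refine hz.inf.le ⟨mul_mem ((mem_normalizer_iff.1 hNT t).1 ht) ((T : Subgroup X).inv_mem ht), ?_⟩
      rw [show y * t * y⁻¹ * t⁻¹ = y * (t * y⁻¹ * t⁻¹) by group]
      exact mul_mem hyS (hS.normal.conj_mem _ (inv_mem hyS) t)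
    let f : Q → Q := fun v => ⟨y * (v : X)⁻¹ * y⁻¹ * v,
      mul_mem ((mem_normalizer_iff.1 hyN _).1 (inv_mem v.2)) v.2⟩
    have hinj : Function.Injective f := by
      rintro ⟨a, ha⟩ ⟨b, hb⟩ h
      replace h : y * a⁻¹ * y⁻¹ * a = y * b⁻¹ * y⁻¹ * b := congrArg Subtype.val h
      refine Subtype.ext ?_
      have hab : b * a⁻¹ = 1 := by
        refine hfix _ (mul_mem hb (inv_mem ha)) ?_
        have e1 : y * b * a⁻¹ * y⁻¹ = (y * b * y⁻¹) * (y * a⁻¹ * y⁻¹ * a) * a⁻¹ := by group
        rw [h] at e1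
        rw [show y * (b * a⁻¹) * y⁻¹ = y * b * a⁻¹ * y⁻¹ by group, e1]
        group
      exact (inv_inv a ▸ eq_inv_of_mul_eq_one_left hab).symm
    obtain ⟨⟨v, hv⟩, hfv⟩ := (Finite.injective_iff_surjective.1 hinj) ⟨_, hw⟩
    replace hfv : y * v⁻¹ * y⁻¹ * v = y * t * y⁻¹ * t⁻¹ := congrArg Subtype.val hfv
    have hty : y * (v * t) * y⁻¹ = v * t := by
      have e1 : y * (v * t) * y⁻¹ = (y * v⁻¹ * y⁻¹)⁻¹ * (y * t * y⁻¹ * t⁻¹) * t := by group
      rw [e1, ← hfv]
      group
    set C : Subgroup X := (T : Subgroup X) ⊓ Cz y ⊓ centralizer (Q : Set X) with hC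
    have hvtC : v * t ∈ C := by
      refine ⟨⟨mul_mem (hQT hv) ht, mem_Cz.2 ?_⟩, mem_centralizer_iff.2 fun c hc => ?_⟩
      · exact (mul_inv_eq_iff_eq_mul.1 hty).symm
      · have h1 : Commute (v * t) z := mem_Cz.1 (hz.central (mul_mem (hQT hv) ht))
        have h2 : Commute (v * t) y := (mul_inv_eq_iff_eq_mul.1 hty).symm
        have h3 : Commute (v * t) z' := (h2.mul_right h1).mul_right h2.inv_right
        rcases hQcard c hc with rfl | rfl | rfl | rfl
        · rw [one_mul, mul_one]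
        · exact h1.eq.symm
        · exact h3.eq.symm
        · exact (h1.mul_right h3).eq.symm
    have hCne : C ≠ ⊥ := fun h => htS (by
      have := (eq_bot_iff_forall _).1 h _ hvtC
      rw [eq_inv_of_mul_eq_one_right this]
      exact inv_mem (map_subtype_le _ hv))
    obtain ⟨⟨w, hwC⟩, hwo⟩ := exists_prime_orderOf_dvd_card' (G := C) 2 (by
      obtain ⟨i, hi⟩ := IsPGroup.iff_card.1 (T.2.to_le (inf_le_left.trans inf_le_left : C ≤ (T : Subgroup X)))
      rcases i with _ | i
      · exact absurd (card_eq_one.1 (by rw [hi, pow_zero])) hCne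
      · rw [hi, pow_succ]; exact dvd_mul_left 2 _)
    rw [orderOf_mk] at hwo
    have hwQ : w ∉ Q := fun h => ne_one_of_two hwo (hfix w h (mem_Cz'.1 (mem_Cz.2 (mem_Cz.1 hwC.1.2).symm)))
    have hcw : ∀ c ∈ Q, Commute c w := fun c hc => mem_centralizer_iff.1 hwC.2 c hc
    have hww := inv_self hwo
    let B : Subgroup X :=
      { carrier := {b | ∃ c ∈ Q, b = c ∨ b = c * w}
        one_mem' := ⟨1, one_mem Q, Or.inl rfl⟩
        mul_mem' := by
          rintro a b ⟨c, hc, ha⟩ ⟨d, hd, hb⟩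
          refine ⟨c * d, mul_mem hc hd, ?_⟩
          rcases ha with rfl | rfl <;> rcases hb with rfl | rfl
          · exact Or.inl rfl
          · exact Or.inr (mul_assoc _ _ _).symm
          · right; rw [mul_assoc, ← (hcw _ hd).eq, mul_assoc]
          · left; rw [mul_assoc, ← mul_assoc w, ← (hcw _ hd).eq, mul_assoc, hww, mul_one]
        inv_mem' := by
          rintro a ⟨c, hc, ha⟩
          refine ⟨c⁻¹, inv_mem hc, ?_⟩
          rcases ha with rfl | rfl
          · exact Or.inl rfl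
          · right; rw [mul_inv_rev, inv_eq_of_mul_eq_one_right hww, ((hcw _ hc).symm.inv_right).eq] }
    have hBT : B ≤ (T : Subgroup X) := by
      rintro a ⟨c, hc, rfl | rfl⟩
      · exact hQT hc
      · exact mul_mem (hQT hc) hwC.1.1
    have hBE : Elem B := by
      refine ⟨?_, ?_⟩
      · rintro a ⟨c, hc, rfl | rfl⟩
        · exact hPE.1 _ hc
        · rw [← pow_two, (hcw c hc).mul_pow, pow_two, pow_two, hPE.1 c hc, hww, one_mul]
      · rintro a ⟨c, hc, ha⟩ b ⟨d, hd, hb⟩
        have hcd : Commute c d := hPE.2 c hc d hd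
        rcases ha with ha | ha <;> rcases hb with hb | hb <;> rw [ha, hb]
        · exact hcd.eq
        · exact (hcd.mul_right (hcw _ hc)).eq
        · exact (hcd.mul_left (hcw _ hd).symm).eq
        · exact ((hcd.mul_right (hcw _ hc)).mul_left ((hcw _ hd).symm.mul_right (Commute.refl w))).eq
    have h5 : 4 < Nat.card B := by
      have hss : (Q : Set X) ⊂ (B : Set X) :=
        ⟨fun c hc => ⟨c, hc, Or.inl rfl⟩, fun h => hwQ (h ⟨1, one_mem Q, Or.inr (one_mul w).symm⟩)⟩
      rw [← hP4]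
      exact Set.ncard_lt_ncard hss (Set.toFinite _)
    exact absurd (rank_one_case hX hS hz hA B hBT hBE) (Nat.not_le.2 h5)
  -- all 2-elements, hence the centraliser of `z`, lie in the socle
  by_contra hne
  have hle : Cz z ≤ S := by
    intro a ha
    obtain ⟨k, l, hl, hkl⟩ := Nat.exists_eq_two_pow_mul_odd (orderOf_pos a).ne'
    have hcop : (2 ^ k).Coprime l := (Nat.coprime_two_left.2 hl).pow_left k
    obtain ⟨i, j, hij⟩ : ∃ i j : ℤ, (1 : ℤ) = (2 ^ k : ℕ) * i + (l : ℕ) * j := by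
      refine ⟨Int.gcdA (2 ^ k : ℕ) l, Int.gcdB (2 ^ k : ℕ) l, ?_⟩
      rw [← Int.gcd_eq_gcd_ab, Int.gcd_natCast_natCast, hcop.gcd_eq_one]
      rfl
    rw [← zpow_one a, hij, zpow_add, zpow_mul, zpow_mul, zpow_natCast, zpow_natCast]
    refine mul_mem (zpow_mem (hAS ⟨pow_mem ha _, ?_⟩) _) (zpow_mem ?_ _)
    · exact Odd.of_dvd_nat hl (orderOf_dvd_of_pow_eq_one (by rw [← pow_mul, ← hkl, pow_orderOf_eq_one]))
    · obtain ⟨T', hT'⟩ := (show IsPGroup 2 (zpowers (a ^ l)) from fun b => ⟨k, Subtype.ext (by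
        obtain ⟨i, hi⟩ := mem_zpowers_iff.1 b.2
        have h1 : (a ^ l) ^ 2 ^ k = 1 := by rw [← pow_mul, mul_comm, ← hkl, pow_orderOf_eq_one]
        rw [coe_pow, ← hi, ← zpow_natCast, ← zpow_mul, mul_comm, zpow_mul, zpow_natCast, h1, one_zpow,
          coe_one])⟩).exists_le_sylow
      obtain ⟨c, hc⟩ := MulAction.exists_smul_eq X T T'
      have := hT' (mem_zpowers (a ^ l))
      rw [← hc, Sylow.coe_subgroup_smul, mem_pointwise_smul_iff_inv_smul_mem] at this
      have h2 := hS.normal.conj_mem _ (hTS this) c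
      rwa [show c * ((MulAut.conj c)⁻¹ • (a ^ l)) * c⁻¹ = a ^ l by
        generalize a ^ l = w
        simp [MulAut.smul_def, MulAut.inv_apply, mul_assoc]] at h2
  have := hX.eq_of_le hz.ord hle hne
  exact hS.not_central hz.memS (ne_one_of_two hz.ord) this.le

theorem not_eleven {F : Type} [Field F] [Fintype F] (hF : Fintype.card F = 11)
    (e : X ≃* Matrix.ProjectiveSpecialLinearGroup (Fin 2) F) : False := by
  classical
  obtain ⟨p, hchar⟩ := CharP.exists F
  obtain ⟨n, hpp, hn⟩ := FiniteField.card F p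
  haveI := Fact.mk hpp
  have hp11 : p = 11 := by
    rw [hF] at hn
    exact (Nat.prime_dvd_prime_iff_eq hpp (by norm_num)).1 (hn ▸ dvd_pow_self p n.ne_zero)
  haveI : Fact (Nat.Prime 5) := ⟨Nat.prime_five⟩
  have hcard : Nat.card (Matrix.ProjectiveSpecialLinearGroup (Fin 2) F) = 660 := by
    have := Dickson.gcd_mul_card_psl (K := F)
    rw [Nat.card_eq_fintype_card (α := F), hF] at this
    rw [show Nat.gcd 2 (11 - 1) = 2 from rfl] at this
    omega
  obtain ⟨y, hy⟩ := exists_prime_orderOf_dvd_card' (G := Matrix.ProjectiveSpecialLinearGroup (Fin 2) F) 5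
    (by rw [hcard]; norm_num)
  set M := normalizer (zpowers y : Set (Matrix.ProjectiveSpecialLinearGroup (Fin 2) F)) with hMdef
  have hM : IsCoatom M := by
    have hy' : orderOf (e.symm y) = 5 ^ 1 := by
      rw [pow_one, ← hy]; exact orderOf_injective e.symm.toMonoidHom e.symm.injective y
    have h1 := hX.coatom_pgroup Nat.prime_five (isPGroup_zpowers hy') (by
      rw [Ne, zpowers_eq_bot]; intro h; rw [h, orderOf_one] at hy'; norm_num at hy')
    have h2 : (normalizer (zpowers (e.symm y) : Set X)).map e.toMonoidHom = M := by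
      rw [map_equiv_normalizer_eq, MonoidHom.map_zpowers, MulEquiv.coe_toMonoidHom, e.apply_symm_apply]
    rw [← h2]
    exact (OrderIso.isCoatom_iff e.mapSubgroup _).2 h1
  have hyM : zpowers y ≤ M := le_normalizer
  have h5M : 5 ∣ Nat.card M := hy ▸ (Nat.card_zpowers y ▸ card_dvd_of_le hyM)
  rcases S5892.result p (by rw [hF]; decide) (by omega) M hM with h | ⟨h, -⟩ | ⟨-, -, k, hk, ⟨d⟩⟩ |
    ⟨F0, i1, i2, h, -⟩ | ⟨F0, i1, i2, r, hr, hro, h, -⟩ | ⟨-, -, ⟨d⟩⟩ | ⟨-, -, h, -⟩ | ⟨-, h, -⟩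
  · rw [hF] at h
    haveI : Fact (Nat.Prime 11) := ⟨by norm_num⟩
    obtain ⟨a, ha⟩ := exists_prime_orderOf_dvd_card' (G := M) 11 (by omega)
    rw [← orderOf_coe] at ha
    obtain ⟨i, hi⟩ := mem_zpowers_iff.1 (zpowers_conj_mem y a.2)
    have hconj : ∀ k : ℕ, (a : Matrix.ProjectiveSpecialLinearGroup (Fin 2) F) ^ k * y * (a.1 ^ k)⁻¹ = y ^ i ^ k := by
      intro k
      induction k with
      | zero => simp
      | succ k ih =>
        rw [pow_succ', show a.1 * a.1 ^ k * y * (a.1 * a.1 ^ k)⁻¹ = a.1 * (a.1 ^ k * y * (a.1 ^ k)⁻¹) * a.1⁻¹ by group,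
          ih, ← conj_zpow, ← hi, ← zpow_mul, pow_succ']
    have h11 := hconj 11
    rw [← ha, pow_orderOf_eq_one, one_mul, inv_one, mul_one, ha] at h11
    have hz : y ^ (i ^ 11 - 1) = 1 := by rw [zpow_sub, zpow_one, ← h11, mul_inv_cancel]
    rw [← orderOf_dvd_iff_zpow_eq_one, hy] at hz
    have hi1 : (5 : ℤ) ∣ i - 1 := by
      rw [show ((5 : ℤ)) = ((5 : ℕ) : ℤ) from rfl, ← ZMod.intCast_zmod_eq_zero_iff_dvd] at *
      push_cast at hz ⊢
      exact zmod_five_pow _ hz
    have hc : Commute a.1 y := by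
      obtain ⟨c, hc⟩ := hi1
      show a.1 * y = y * a.1
      rw [← mul_inv_eq_iff_eq_mul, ← hi, show i = 5 * c + 1 by omega, zpow_add, zpow_mul, zpow_one]
      rw [show ((5 : ℤ)) = ((5 : ℕ) : ℤ) from rfl, zpow_natCast, ← hy, pow_orderOf_eq_one, one_zpow, one_mul]
    have ho : orderOf (a.1 * y) = 55 := by
      rw [hc.orderOf_mul_eq_mul_orderOf_of_coprime (by rw [ha, hy]; norm_num), ha, hy]
    have := (S2475.result p (F := F) (by omega)).le ⟨a.1 * y, ho⟩
    rw [hF, hp11] at this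
    rcases this with h | h | h <;> revert h <;> decide
  · omega
  · have hk6 : k = 6 := by omega
    subst hk6
    rw [Nat.card_congr d.toEquiv, DihedralGroup.nat_card] at h5M
    norm_num at h5M
  · rw [hF] at h
    rcases Nat.lt_or_ge (Fintype.card F0) 4 with h4 | h4
    · interval_cases (Fintype.card F0) <;> norm_num at h
    · nlinarith
  · rw [hF] at h
    exact absurd h (fun h => by
      have := Nat.Prime.eq_one_of_pow (x := Fintype.card F0) (n := r) (h ▸ (by norm_num : Nat.Prime 11))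
      exact hr.ne_one this)
  · haveI := d.isSimpleGroup
    haveI hn' : ((zpowers y).subgroupOf M).Normal := inferInstance
    have hc60 : Nat.card M = 60 := by
      rw [Nat.card_congr d.toEquiv, nat_card_alternatingGroup, Nat.card_eq_fintype_card, Fintype.card_fin]
      rfl
    have h5' : Nat.card ((zpowers y).subgroupOf M) = 5 := by
      rw [Nat.card_congr (subgroupOfEquivOfLe hyM).toEquiv, Nat.card_zpowers, hy]
    rcases hn'.eq_bot_or_eq_top with h | h
    · rw [h, card_bot] at h5'; norm_num at h5'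
    · rw [h, card_top, hc60] at h5'; norm_num at h5'
  · exact h (Or.inl (by rw [hp11]))
  · rw [hp11] at h; omega

end Cfsg.Agent.MaxNorm13
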