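import Cfsg.Agent.Lib.MaxNorm13.Six
import Cfsg.Agent.Lib.Small.DegreePrimeSuccData
import Cfsg.Agent.S0253
import Cfsg.Agent.S0803

/-!
The primes 5 and 7 are excluded; the group is `PSL(2, 13)`.
-/

set_option autoImplicit false
set_option linter.unusedSectionVars false

namespace Cfsg.Agent.MaxNorm13

open Subgroup

universe u

variable {X : Type u} [Group X] [Finite X]

private abbrev v₁ : Equiv.Perm (Fin 4) := Equiv.swap 0 1 * Equiv.swap 2 3
private abbrev v₂ : Equiv.Perm (Fin 4) := Equiv.swap 0 2 * Equiv.swap 1 3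
private abbrev v₃ : Equiv.Perm (Fin 4) := Equiv.swap 0 3 * Equiv.swap 1 2

theorem klein_mul : ∀ a b : Equiv.Perm (Fin 4), (a = 1 ∨ a = v₁ ∨ a = v₂ ∨ a = v₃) →
    (b = 1 ∨ b = v₁ ∨ b = v₂ ∨ b = v₃) →
    (a * b = 1 ∨ a * b = v₁ ∨ a * b = v₂ ∨ a * b = v₃) ∧ a * b = b * a := by decide

theorem klein_inv : ∀ a : Equiv.Perm (Fin 4), (a = 1 ∨ a = v₁ ∨ a = v₂ ∨ a = v₃) →
    (a⁻¹ = 1 ∨ a⁻¹ = v₁ ∨ a⁻¹ = v₂ ∨ a⁻¹ = v₃) ∧ a * a = 1 := by decide

theorem klein_conj : ∀ g a : Equiv.Perm (Fin 4), (a = 1 ∨ a = v₁ ∨ a = v₂ ∨ a = v₃) →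
    (g * a * g⁻¹ = 1 ∨ g * a * g⁻¹ = v₁ ∨ g * a * g⁻¹ = v₂ ∨ g * a * g⁻¹ = v₃) := by decide

theorem klein_cent : ∀ w : Equiv.Perm (Fin 4), w * w = 1 → w * v₁ = v₁ * w → w * v₂ = v₂ * w →
    w = 1 ∨ w = v₁ ∨ w = v₂ ∨ w = v₃ := by decide

theorem klein_three : ∀ w : Equiv.Perm (Fin 4), (w = v₁ ∨ w = v₂ ∨ w = v₃) →
    Equiv.swap 0 1 * Equiv.swap 1 2 * w ≠ w * (Equiv.swap 0 1 * Equiv.swap 1 2) := by decide

theorem card_sylow_two {G : Type*} [Group G] [Finite G] (P : Sylow 2 G) {m : ℕ} (hm : Odd m)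
    (hG : Nat.card G = 8 * m) : Nat.card (P : Subgroup G) = 8 := by
  haveI : Fact (Nat.Prime 2) := ⟨Nat.prime_two⟩
  obtain ⟨j, hj⟩ := IsPGroup.iff_card.1 P.2
  have hidx : Odd (P : Subgroup G).index :=
    Nat.not_even_iff_odd.1 fun h => P.not_dvd_index' (Nat.card_pos).ne' (even_iff_two_dvd.1 h)
  have h := (P : Subgroup G).card_mul_index
  rw [hj, hG] at h
  refine Nat.dvd_antisymm ?_ ?_
  · have : Nat.Coprime (2 ^ j) m := (Nat.coprime_two_left.2 hm).pow_left j
    rw [hj]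
    exact this.dvd_of_dvd_mul_right ⟨_, h.symm⟩
  · have : Nat.Coprime (2 ^ 3) (P : Subgroup G).index := (Nat.coprime_two_left.2 hidx).pow_left 3
    rw [hj]
    exact this.dvd_of_dvd_mul_right ⟨m, h⟩

variable (hX : Hyp X)
include hX

theorem five_false {S : Subgroup X} (hS : Socle S) {F : Type} [Field F] [Fintype F]
    (hF : Fintype.card F = 5) (e : S ≃* Matrix.ProjectiveSpecialLinearGroup (Fin 2) F) : False := by
  obtain ⟨a⟩ := S0253.result hF
  set d := e.trans a
  set z0 : alternatingGroup (Fin 5) :=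
    ⟨Equiv.swap 0 1 * Equiv.swap 2 3, Equiv.Perm.mem_alternatingGroup.2 (by decide)⟩ with hz0
  set y0 : alternatingGroup (Fin 5) :=
    ⟨Equiv.swap 0 1 * Equiv.swap 1 2, Equiv.Perm.mem_alternatingGroup.2 (by decide)⟩ with hy0
  set f := emb d
  have hzo : orderOf (f z0) = 2 := by
    rw [orderOf_injective f (emb_injective d)]
    exact orderOf_eq_prime (by rw [hz0]; decide) (by rw [hz0]; decide)
  have hnorm : ∀ b : alternatingGroup (Fin 5), b * z0 = z0 * b → y0 * b * y0⁻¹ * z0 = z0 * (y0 * b * y0⁻¹) := by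
    rw [hz0, hy0]; decide
  set C : Subgroup X := S ⊓ Cz (f z0) with hC
  have hyN : f y0 ∈ normalizer (C : Set X) := by
    refine mem_normalizer_fintype fun c hc => ?_
    obtain ⟨b, rfl⟩ := exists_emb d hc.1
    refine ⟨hS.normal.conj_mem _ hc.1 _, mem_Cz.2 ?_⟩
    have h1 : b * z0 = z0 * b := emb_injective d (by rw [map_mul (emb d), map_mul (emb d)]; exact mem_Cz.1 hc.2)
    have h2 := congrArg f (hnorm b h1)
    simp only [map_mul, map_inv] at h2
    exact h2
  have hle : Cz (f z0) ≤ normalizer (C : Set X) := fun g hg => by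
    refine mem_normalizer_fintype fun c hc => ?_
    exact ⟨hS.normal.conj_mem _ hc.1 g, (Cz (f z0)).mul_mem ((Cz (f z0)).mul_mem hg hc.2) ((Cz (f z0)).inv_mem hg)⟩
  have hy := hX.eq_of_le hzo hle (normalizer_inf_ne_top hX hS (emb_mem d z0) (ne_one_of_two hzo)) ▸ hyN
  rw [mem_Cz, ← map_mul, ← map_mul] at hy
  have := emb_injective d hy
  rw [hz0, hy0] at this
  exact absurd this (by decide)

theorem seven_false {S : Subgroup X} (hS : Socle S) {F : Type} [Field F] [Fintype F]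
    (hF : Fintype.card F = 7) (e : S ≃* Matrix.ProjectiveSpecialLinearGroup (Fin 2) F) : False := by
  classical
  haveI := hS.simple
  haveI := hS.normal
  haveI : Fact (Nat.Prime 2) := ⟨Nat.prime_two⟩
  obtain ⟨P, T, z, hz⟩ := exists_adapted hS
  have hcS : Nat.card S = 8 * 21 := by
    have := Dickson.gcd_mul_card_psl (K := F)
    rw [Nat.card_eq_fintype_card (α := F), hF, show Nat.gcd 2 (7 - 1) = 2 from rfl] at this
    rw [Nat.card_congr e.toEquiv]
    omega
  have hP8 := card_sylow_two P (by decide) hcS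
  -- a symmetric group of degree four containing the Sylow subgroup
  obtain ⟨H, ⟨d⟩⟩ := (S0803.result hF).2 (by norm_num)
  let κ : Equiv.Perm (Fin 4) →* S := e.symm.toMonoidHom.comp (H.subtype.comp d.symm.toMonoidHom)
  have hκ : Function.Injective κ := e.symm.injective.comp (H.subtype_injective.comp d.symm.injective)
  obtain ⟨D⟩ := (inferInstance : Nonempty (Sylow 2 (Equiv.Perm (Fin 4))))
  have hD8 := card_sylow_two D (m := 3) (by decide) (by
    rw [Nat.card_eq_fintype_card, Fintype.card_perm, Fintype.card_fin]; rfl)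
  obtain ⟨Q, hQ⟩ := (D.2.map κ).exists_le_sylow
  obtain ⟨g, hg⟩ := MulAction.exists_smul_eq S Q P
  let ι : Equiv.Perm (Fin 4) →* X := S.subtype.comp ((MulAut.conj g).toMonoidHom.comp κ)
  have hι : Function.Injective ι := S.subtype_injective.comp ((MulAut.conj g).injective.comp hκ)
  have hιS : ∀ a, ι a ∈ S := fun a => SetLike.coe_mem _
  set Px : Subgroup X := (P : Subgroup S).map S.subtype with hPx
  have hDP : (D : Subgroup _).map ι = Px := by
    refine eq_of_le_of_card_ge ?_ ?_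
    · rintro _ ⟨a, ha, rfl⟩
      refine ⟨MulAut.conj g (κ a), ?_, rfl⟩
      rw [← hg, Sylow.coe_subgroup_smul]
      exact ⟨κ a, hQ ⟨a, ha, rfl⟩, rfl⟩
    · rw [card_map_of_injective hι, hPx, card_map_of_injective S.subtype_injective, hP8, hD8]
  let V : Subgroup (Equiv.Perm (Fin 4)) :=
    { carrier := {a | a = 1 ∨ a = v₁ ∨ a = v₂ ∨ a = v₃}
      one_mem' := Or.inl rfl
      mul_mem' := fun ha hb => (klein_mul _ _ ha hb).1
      inv_mem' := fun ha => (klein_inv _ ha).1 }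
  haveI hVn : V.Normal := ⟨fun a ha c => klein_conj c a ha⟩
  have hVD : V ≤ (D : Subgroup _) := by
    have hVp : IsPGroup 2 V := fun a => ⟨1, Subtype.ext (by simpa [pow_two] using (klein_inv _ a.2).2)⟩
    exact (D.3 (D.2.to_sup_of_normal_right hVp) le_sup_left) ▸ le_sup_right
  have hPT : Px ≤ (T : Subgroup X) := fun a ha => (hz.inf.ge ha).1
  have hmemP : ∀ a ∈ V, ι a ∈ Px := fun a ha => hDP ▸ mem_map_of_mem ι (hVD ha)
  obtain ⟨w, -, hw⟩ : z ∈ (D : Subgroup _).map ι := hDP ▸ ⟨_, hz.memP, rfl⟩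
  have hwV : w ∈ V := by
    refine klein_cent w (hι (by rw [map_mul, hw, map_one]; exact inv_self hz.ord)) (hι ?_) (hι ?_)
    · rw [map_mul ι w, map_mul ι _ w, hw]
      exact (mem_Cz.1 (hz.central (hPT (hmemP _ (Or.inr (Or.inl rfl)))))).symm
    · rw [map_mul ι w, map_mul ι _ w, hw]
      exact (mem_Cz.1 (hz.central (hPT (hmemP _ (Or.inr (Or.inr (Or.inl rfl))))))).symm
  have hw1 : w ≠ 1 := fun h => ne_one_of_two hz.ord (by rw [← hw, h, map_one])
  -- the odd part is trivial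
  have hA : oddPart hX hz.ord = ⊥ := by
    by_contra hA
    obtain ⟨v, hvV, hv1, hvw⟩ : ∃ v ∈ V, v ≠ 1 ∧ v ≠ w := by
      by_cases h : w = v₁
      · exact ⟨v₂, Or.inr (Or.inr (Or.inl rfl)), by decide, by rw [h]; decide⟩
      · exact ⟨v₁, Or.inr (Or.inl rfl), by decide, Ne.symm h⟩
    have hvo : orderOf (ι v) = 2 := by
      rw [orderOf_injective ι hι]
      exact orderOf_eq_prime (by rw [pow_two]; exact (klein_inv v hvV).2) hv1
    have hvn : Cz (ι v) ≠ Cz z := fun h => hvw (hι ((unique_central hX hS hz hA hvo h).trans hw.symm))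
    obtain ⟨⟨b, hb⟩, hb1⟩ := ne_bot_iff_exists_ne_one.1 hA
    have hbS : b ∈ S := by
      have hbb : b * b = b * (ι v * b⁻¹ * (ι v)⁻¹) := by
        rw [inverts hX hz.ord hvo (hz.central (hPT (hmemP v hvV))) hvn (inv_mem hb), inv_inv]
      have hb2 : b * b ∈ S := by
        rw [hbb, ← mul_assoc, ← mul_assoc]
        exact mul_mem (hS.normal.conj_mem _ (hιS _) b) (inv_mem (hιS _))
      obtain ⟨j, hj⟩ := hb.2
      have h1 : b = ((b * b) ^ j)⁻¹ := by
        refine eq_inv_of_mul_eq_one_left ?_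
        rw [← pow_two, ← pow_mul, ← pow_succ', ← hj, pow_orderOf_eq_one]
      rw [h1]
      exact inv_mem (pow_mem hb2 j)
    have ho : orderOf (b * z) = orderOf b * 2 := by
      rw [Commute.orderOf_mul_eq_mul_orderOf_of_coprime (show Commute b z from mem_Cz.1 hb.1)
        (by rw [hz.ord]; exact Nat.coprime_two_right.2 hb.2), hz.ord]
    have ho' : orderOf (e ⟨b * z, mul_mem hbS hz.memS⟩) = orderOf b * 2 := by
      rw [← ho, MulEquiv.orderOf_eq, Subgroup.orderOf_mk]
    obtain ⟨p, hchar⟩ := CharP.exists F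
    obtain ⟨n, hpp, hn⟩ := FiniteField.card F p
    haveI := Fact.mk hpp
    have hp7 : p = 7 := by
      rw [hF] at hn
      exact (Nat.prime_dvd_prime_iff_eq hpp (by norm_num)).1 (hn ▸ dvd_pow_self p n.ne_zero)
    have := (S2475.result p (F := F) (by omega)).le ⟨_, ho'⟩
    rw [hF, hp7] at this
    refine hb1 (Subtype.ext (orderOf_eq_one_iff.1 ?_))
    have hbo := Nat.odd_iff.1 hb.2
    rcases this with h | h | h
    · exact absurd ((dvd_mul_left 2 _).trans h) (by norm_num)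
    · exact absurd ((dvd_mul_left 2 _).trans h) (by norm_num)
    · have h' : orderOf b * 2 ∣ 4 := by simpa using h
      have := Nat.le_of_dvd (by norm_num) h'
      have h2le : orderOf b ≤ 2 := by omega
      have hb0 := orderOf_pos b
      interval_cases h2 : orderOf b <;> omega
  have hNP := normalizer_sylow_socle hX hS hz hA
  -- the normaliser of the four-group covers the quotient by the socle
  set V1 : Subgroup X := V.map ι with hV1
  set N1 := normalizer (V1 : Set X) with hN1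
  have hzV1 : z ∈ V1 := ⟨w, hwV, hw⟩
  have hV1T : V1 ≤ (T : Subgroup X) := by
    rintro _ ⟨a, ha, rfl⟩; exact hPT (hmemP a ha)
  have hV1p : IsPGroup 2 V1 := T.2.to_le hV1T
  have hV1ne : V1 ≠ ⊥ := fun h => ne_one_of_two hz.ord ((eq_bot_iff_forall _).1 h z hzV1)
  have hco : IsCoatom N1 := hX.coatom_pgroup Nat.prime_two hV1p hV1ne
  have hPN : Px ≤ N1 := by
    rw [← hDP]
    rintro _ ⟨a, -, rfl⟩
    refine mem_normalizer_fintype ?_
    rintro _ ⟨c, hc, rfl⟩
    exact ⟨a * c * a⁻¹, klein_conj a c hc, by rw [map_mul, map_mul, map_inv]⟩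
  have hSN : S ⊔ N1 = ⊤ := by
    refine hco.lt_iff.1 (lt_of_le_of_ne le_sup_right fun h => ?_)
    have hle : S ≤ N1 := h ▸ le_sup_left
    have hV1S : V1 ≤ S := by rintro _ ⟨a, -, rfl⟩; exact hιS a
    haveI : (V1.subgroupOf S).Normal := normal_subgroupOf_of_le_normalizer hle
    rcases (inferInstance : (V1.subgroupOf S).Normal).eq_bot_or_eq_top with h | h
    · exact ne_one_of_two hz.ord (congrArg Subtype.val ((eq_bot_iff_forall _).1 h ⟨z, hz.memS⟩ hzV1))
    · refine hS.nab ⟨⟨fun a b => Subtype.ext ?_⟩⟩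
      obtain ⟨a', ha, hae⟩ := subgroupOf_eq_top.1 h a.2
      obtain ⟨b', hb, hbe⟩ := subgroupOf_eq_top.1 h b.2
      rw [coe_mul, coe_mul, ← hae, ← hbe, ← map_mul, ← map_mul, (klein_mul _ _ ha hb).2]
  have hfrattini : N1 ≤ S ⊔ ((T : Subgroup X) ⊓ N1) := by
    haveI : (S.subgroupOf N1).Normal := Normal.subgroupOf hS.normal N1
    let f : S.subgroupOf N1 →* S := ((N1.subtype).comp (S.subgroupOf N1).subtype).codRestrict S fun a => a.2
    have hf : Function.Injective f := fun a b h => Subtype.ext (Subtype.ext (congrArg Subtype.val h :))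
    let P' : Sylow 2 (S.subgroupOf N1) := P.comapOfInjective f hf fun a ha =>
      ⟨⟨⟨a, hPN ⟨a, ha, rfl⟩⟩, a.2⟩, rfl⟩
    have key := Sylow.normalizer_sup_eq_top P'
    intro m hm
    have hm' : (⟨m, hm⟩ : N1) ∈ (⊤ : Subgroup N1) := mem_top _
    rw [← key, mem_sup_of_normal_right] at hm'
    obtain ⟨n, hn, s, hs, hns⟩ := hm'
    have hnT : (n : X) ∈ (T : Subgroup X) := by
      rw [← hNP]
      refine mem_normalizer_fintype fun c hc => ?_
      obtain ⟨c', hc', rfl⟩ := hc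
      have hmem : (⟨(c' : X), hPN ⟨c', hc', rfl⟩⟩ : N1) ∈ ((P' : Subgroup _).map (S.subgroupOf N1).subtype) :=
        ⟨⟨⟨(c' : X), hPN ⟨c', hc', rfl⟩⟩, c'.2⟩, by
          show f _ ∈ (P : Subgroup S)
          exact hc', rfl⟩
      obtain ⟨r, hr, hre⟩ := (mem_normalizer_iff.1 hn _).1 hmem
      exact ⟨f r, hr, congrArg Subtype.val hre⟩
    have : m = (n : X) * (s : X) := (congrArg Subtype.val hns).symm
    rw [this]
    exact mul_mem (mem_sup_right ⟨hnT, n.2⟩) (mem_sup_left hs)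
  have hTN : (T : Subgroup X) ≤ N1 := by
    intro x hx
    have h : x ∈ S ⊔ ((T : Subgroup X) ⊓ N1) := (sup_le le_sup_left hfrattini : S ⊔ N1 ≤ _) (hSN ▸ mem_top x)
    rw [mem_sup_of_normal_left] at h
    obtain ⟨s, hs, n, hn, rfl⟩ := h
    have hsT : s ∈ (T : Subgroup X) := by
      have := (T : Subgroup X).mul_mem hx ((T : Subgroup X).inv_mem hn.1)
      rwa [mul_inv_cancel_right] at this
    exact mul_mem (hPN (hz.inf.le ⟨hsT, hs⟩)) hn.2
  rw [← Cz_central_eq hX hz.ord hz.central hA] at hTN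
  have hc3 : ι (Equiv.swap 0 1 * Equiv.swap 1 2) ∈ Cz z := by
    rw [← hX.eq_of_le hz.ord hTN hco.1]
    refine mem_normalizer_fintype ?_
    rintro _ ⟨c, hc, rfl⟩
    exact ⟨_, klein_conj (Equiv.swap 0 1 * Equiv.swap 1 2) c hc, by rw [map_mul ι, map_mul ι, map_inv ι]⟩
  rw [mem_Cz, ← hw, ← map_mul ι, ← map_mul ι] at hc3
  exact klein_three w (hwV.resolve_left hw1) (hι hc3)

/-- A group with simple socle and the property is `PSL(2, 13)`. -/
theorem equiv_psl {S : Subgroup X} (hS : Socle S) :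
    Nonempty (X ≃* Matrix.ProjectiveSpecialLinearGroup (Fin 2) (ZMod 13)) := by
  haveI : Fact (Nat.Prime 13) := ⟨by norm_num⟩
  obtain ⟨F, i1, i2, hodd, h3, ⟨e⟩⟩ := socle_oddPSL hX hS
  rcases small_field hX hS hodd h3 e with h | h | ⟨h, φ, hφ, hmem⟩
  · exact (five_false hX hS h e).elim
  · exact (seven_false hX hS h e).elim
  · have hT := six_top hX hS h e φ hφ hmem
    let e' : X ≃* Matrix.ProjectiveSpecialLinearGroup (Fin 2) F :=
      (Subgroup.topEquiv.symm.trans (MulEquiv.subgroupCongr hT.symm)).trans e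
    rcases h with h | h
    · exact (not_eleven hX h e').elim
    · obtain ⟨a⟩ := PSucc.psl_congr (F := F) (K := ZMod 13)
        (FiniteField.ringEquivOfCardEq (K := F) (K' := ZMod 13) (by rw [h, ZMod.card]))
      exact ⟨e'.trans a⟩

end Cfsg.Agent.MaxNorm13
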