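import Cfsg.Agent.Lib.MaxNorm13.Simple
import Cfsg.Agent.Lib.PSL2Binary.Borel
import Cfsg.Agent.S0811
import Cfsg.Agent.S0812
import Mathlib.GroupTheory.SpecificGroups.Dihedral

/-!
The field is prime, and the dihedral subgroups leave only `PSL(2, p)` with `p ≤ 13`.
-/

set_option autoImplicit false
set_option linter.unusedSectionVars false

namespace Cfsg.Agent.MaxNorm13

open Subgroup

universe u

variable {X : Type u} [Group X] [Finite X]

/-- An isomorphism of the socle with a group, seen as an embedding of that group. -/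
abbrev emb {S : Subgroup X} {Q : Type*} [Group Q] (e : S ≃* Q) : Q →* X := S.subtype.comp e.symm.toMonoidHom

theorem emb_injective {S : Subgroup X} {Q : Type*} [Group Q] (e : S ≃* Q) : Function.Injective (emb e) :=
  S.subtype_injective.comp e.symm.injective

theorem emb_mem {S : Subgroup X} {Q : Type*} [Group Q] (e : S ≃* Q) (a : Q) : emb e a ∈ S := (e.symm a).2

theorem exists_emb {S : Subgroup X} {Q : Type*} [Group Q] (e : S ≃* Q) {x : X} (hx : x ∈ S) :
    ∃ a, emb e a = x :=
  ⟨e ⟨x, hx⟩, by simp⟩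

theorem mem_normalizer_zpowers {x g : X} (h : g * x * g⁻¹ ∈ zpowers x) :
    g ∈ normalizer (zpowers x : Set X) := by
  refine mem_normalizer_fintype fun n hn => ?_
  obtain ⟨k, rfl⟩ := mem_zpowers_iff.1 hn
  rw [← conj_zpow]
  exact zpow_mem h k

theorem Socle.not_le_of_normal {S : Subgroup X} (hS : Socle S) {C : Subgroup X} (hn : C.Normal) (hle : C ≤ S)
    {x : X} (hx : x ∈ C) (hx1 : x ≠ 1) : C = S := by
  haveI := hS.simple
  haveI : (C.subgroupOf S).Normal := Normal.subgroupOf hn S
  rcases (inferInstance : (C.subgroupOf S).Normal).eq_bot_or_eq_top with e | e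
  · exact absurd ((eq_bot_iff_forall _).1 e ⟨x, hle hx⟩ hx) (fun h => hx1 (congrArg Subtype.val h))
  · exact le_antisymm hle (subgroupOf_eq_top.1 e)

theorem Socle.not_central {S : Subgroup X} (hS : Socle S) {x : X} (hx : x ∈ S) (hx1 : x ≠ 1) :
    ¬ S ≤ Cz x := by
  intro h
  haveI := hS.simple
  haveI : (center S).Normal := inferInstance
  rcases (inferInstance : (center S).Normal).eq_bot_or_eq_top with e | e
  · exact hx1 (congrArg Subtype.val ((eq_bot_iff_forall _).1 e ⟨x, hx⟩
      (mem_center_iff.2 fun g => Subtype.ext (mem_Cz.1 (h g.2)))))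
  · exact hS.nab ⟨⟨fun a b => mem_center_iff.1 (e ▸ mem_top b) a⟩⟩

variable (hX : Hyp X)
include hX

/-- A subgroup `C` of the socle that contains a nontrivial element it centralises is not normal. -/
theorem normalizer_inf_ne_top {S : Subgroup X} (hS : Socle S) {x : X} (hx : x ∈ S) (hx1 : x ≠ 1) :
    normalizer ((S ⊓ Cz x : Subgroup X) : Set X) ≠ ⊤ := by
  intro h
  have := hS.not_le_of_normal (normalizer_eq_top_iff.1 h) inf_le_left ⟨hx, self_mem_Cz x⟩ hx1
  exact hS.not_central hx hx1 (this.ge.trans inf_le_right)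

theorem card_field_prime {S : Subgroup X} (hS : Socle S) {F : Type} [Field F] [Fintype F]
    (hodd : Odd (Fintype.card F)) (e : S ≃* Matrix.ProjectiveSpecialLinearGroup (Fin 2) F) :
    (Fintype.card F).Prime := by
  classical
  obtain ⟨p, hchar⟩ := CharP.exists F
  obtain ⟨n, hpp, hn⟩ := FiniteField.card F p
  haveI := Fact.mk hpp
  have h2 : (2 : F) ≠ 0 := Ring.two_ne_zero (by
    rw [ringChar.eq F p]
    rintro rfl
    rw [hn, Nat.odd_pow_iff n.ne_zero] at hodd
    exact absurd hodd (by decide))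
  set π := PSL2Inv.pr (F := F)
  set x : X := emb e (π (PStable.upp 1)) with hxdef
  have hupp : ∀ {a b : F}, π (PStable.upp a) = π (PStable.upp b) → a = b := by
    intro a b h
    rcases PSL2Inv.pr_eq_iff.1 h with h | h
    · exact (PStable.upp_injective h).symm
    · have h0 := congrArg (fun Z : Matrix.SpecialLinearGroup (Fin 2) F => (Z : Matrix (Fin 2) (Fin 2) F) 0 0) h
      simp [PStable.upp_val, SL2Inv.coe_negOne, Matrix.mul_apply, Fin.sum_univ_two] at h0
      exact absurd (by linear_combination h0) h2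
  have hx1 : x ≠ 1 := fun h => by
    have := hupp (a := 1) (b := 0) (emb_injective e (by rw [PStable.upp_zero, map_one, map_one]; exact h))
    exact one_ne_zero this
  have hxp : orderOf x = p := by
    refine orderOf_eq_prime ?_ hx1
    have hk : ∀ k : ℕ, PStable.upp (1 : F) ^ k = PStable.upp (k : F) := by
      intro k
      induction k with
      | zero => simp [PStable.upp_zero]
      | succ k ih => rw [pow_succ, ih, PStable.upp_mul, Nat.cast_succ]
    rw [hxdef, ← map_pow, ← map_pow, hk, CharP.cast_eq_zero, PStable.upp_zero, map_one, map_one]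
  have hpg : IsPGroup p (zpowers x) := isPGroup_zpowers (k := 1) (by rw [hxp, pow_one])
  have hco := hX.coatom_pgroup hpp hpg (by rwa [Ne, zpowers_eq_bot])
  set C : Subgroup X := S ⊓ Cz x with hC
  have hNle : normalizer (zpowers x : Set X) ≤ normalizer (C : Set X) := by
    intro g hg
    refine mem_normalizer_fintype fun a ha => ?_
    obtain ⟨i, hi⟩ := mem_zpowers_iff.1 (zpowers_conj_mem x ((normalizer _).inv_mem hg))
    refine mem_inf.2 ⟨hS.normal.conj_mem _ ha.1 g, mem_Cz.2 ?_⟩
    rw [inv_inv] at hi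
    have hc : Commute a (x ^ i) := Commute.zpow_right (mem_Cz.1 ha.2 : Commute a x) i
    rw [hi] at hc
    calc g * a * g⁻¹ * x = g * (a * (g⁻¹ * x * g)) * g⁻¹ := by group
      _ = g * (g⁻¹ * x * g * a) * g⁻¹ := by rw [hc.eq]
      _ = _ := by group
  have hCne := normalizer_inf_ne_top hX hS (emb_mem e _ : x ∈ S) hx1
  have hNeq := ((hco.le_iff.1 hNle).resolve_left hCne)
  have hcomm : ∀ (Y : Matrix.SpecialLinearGroup (Fin 2) F), Commute (π Y) (π (PStable.upp 1)) →
      ∀ c : F, Commute (π Y) (π (PStable.upp c)) := by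
    intro Y hY c
    have hY' : π (Y * PStable.upp 1) = π (PStable.upp 1 * Y) := by rw [map_mul, map_mul, hY.eq]
    suffices h : Y * PStable.upp c = PStable.upp c * Y by
      show π Y * π _ = π _ * π Y
      rw [← map_mul, ← map_mul, h]
    have hdet : (Y : Matrix (Fin 2) (Fin 2) F) 0 0 * (Y : Matrix (Fin 2) (Fin 2) F) 1 1 -
        (Y : Matrix (Fin 2) (Fin 2) F) 0 1 * (Y : Matrix (Fin 2) (Fin 2) F) 1 0 = 1 := by
      rw [← Matrix.det_fin_two]; exact Y.2
    rcases PSL2Inv.pr_eq_iff.1 hY' with h | h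
    · have e00 := congrArg (fun Z : Matrix.SpecialLinearGroup (Fin 2) F => (Z : Matrix (Fin 2) (Fin 2) F) 0 0) h
      have e01 := congrArg (fun Z : Matrix.SpecialLinearGroup (Fin 2) F => (Z : Matrix (Fin 2) (Fin 2) F) 0 1) h
      simp [PStable.upp_val, Matrix.mul_apply, Fin.sum_univ_two] at e00 e01
      have h10 : (Y : Matrix (Fin 2) (Fin 2) F) 1 0 = 0 := by linear_combination e00
      have h11 : (Y : Matrix (Fin 2) (Fin 2) F) 1 1 = (Y : Matrix (Fin 2) (Fin 2) F) 0 0 := by
        linear_combination e01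
      apply Subtype.ext
      ext i j
      fin_cases i <;> fin_cases j <;>
        simp [PStable.upp_val, Matrix.mul_apply, Fin.sum_univ_two, h10, h11] <;> ring
    · exfalso
      have e00 := congrArg (fun Z : Matrix.SpecialLinearGroup (Fin 2) F => (Z : Matrix (Fin 2) (Fin 2) F) 0 0) h
      have e10 := congrArg (fun Z : Matrix.SpecialLinearGroup (Fin 2) F => (Z : Matrix (Fin 2) (Fin 2) F) 1 0) h
      simp [PStable.upp_val, SL2Inv.coe_negOne, Matrix.mul_apply, Fin.sum_univ_two] at e00 e10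
      have h10 : (Y : Matrix (Fin 2) (Fin 2) F) 1 0 = 0 :=
        (mul_eq_zero.1 (by linear_combination e10 :
          (2 : F) * (Y : Matrix (Fin 2) (Fin 2) F) 1 0 = 0)).resolve_left h2
      have h00 : (Y : Matrix (Fin 2) (Fin 2) F) 0 0 = 0 :=
        (mul_eq_zero.1 (by linear_combination e00 - h10 :
          (2 : F) * (Y : Matrix (Fin 2) (Fin 2) F) 0 0 = 0)).resolve_left h2
      rw [h10, h00] at hdet
      simp at hdet
  have hsq : ∀ l : Fˣ, ∃ i : ℕ, i < p ∧ (l : F) ^ 2 = (i : F) := by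
    intro l
    set g : X := emb e (π (PSL2Binary.dg l)) with hg
    have hgC : g ∈ normalizer (C : Set X) := by
      refine mem_normalizer_fintype fun a ha => ?_
      refine mem_inf.2 ⟨hS.normal.conj_mem _ ha.1 g, mem_Cz.2 ?_⟩
      obtain ⟨b, rfl⟩ := exists_emb e ha.1
      obtain ⟨Y, rfl⟩ := PSL2Inv.pr_surjective b
      have hY : Commute (π Y) (π (PStable.upp 1)) :=
        emb_injective e (by rw [map_mul (emb e), map_mul (emb e)]; exact mem_Cz.1 ha.2)
      have hc := hcomm Y hY (((l⁻¹ : Fˣ) : F) ^ 2)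
      have hd : π (PSL2Binary.dg l) * π (PStable.upp (((l⁻¹ : Fˣ) : F) ^ 2)) * (π (PSL2Binary.dg l))⁻¹ =
          π (PStable.upp 1) := by
        rw [← map_inv, ← map_mul, ← map_mul, PSL2Binary.dg_conj_upp, ← mul_pow, Units.mul_inv, one_pow]
      have hh : Commute (π (PSL2Binary.dg l) * π Y * (π (PSL2Binary.dg l))⁻¹) (π (PStable.upp 1)) :=
        hd ▸ (Commute.conj_iff _).2 hc
      simpa [hg, hxdef, map_mul, map_inv] using (hh.map (emb e)).eq
    rw [hNeq] at hgC
    have hm := zpowers_conj_mem x hgC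
    rw [← mem_powers_iff_mem_zpowers] at hm
    obtain ⟨i, hi⟩ := hm
    refine ⟨i % p, Nat.mod_lt _ hpp.pos, ?_⟩
    have hk : ∀ k : ℕ, PStable.upp (1 : F) ^ k = PStable.upp (k : F) := by
      intro k
      induction k with
      | zero => simp [PStable.upp_zero]
      | succ k ih => rw [pow_succ, ih, PStable.upp_mul, Nat.cast_succ]
    have hi' : x ^ i = g * x * g⁻¹ := hi
    rw [hg, hxdef, ← map_pow, ← map_pow, hk, ← map_inv, ← map_mul, ← map_mul, ← map_inv π, ← map_mul π,
      ← map_mul π, PSL2Binary.dg_conj_upp, mul_one] at hi'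
    rw [← hupp (emb_injective e hi'), CharP.cast_eq_mod F p i]
  let I : Finset F := (Finset.range p).image fun i : ℕ => (i : F)
  have hmem : ∀ a : F, a ≠ 0 → a ^ 2 ∈ I := fun a ha => by
    obtain ⟨i, hi, e⟩ := hsq (Units.mk0 a ha)
    exact Finset.mem_image.2 ⟨i, Finset.mem_range.2 hi, e.symm⟩
  have hle : (Finset.univ : Finset F).card ≤ 2 * I.card := by
    refine Finset.card_le_mul_card_image_of_maps_to (f := fun a : F => a ^ 2) (fun a _ => ?_) 2 fun b _ => ?_
    · by_cases ha : a = 0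
      · exact Finset.mem_image.2 ⟨0, Finset.mem_range.2 hpp.pos, by simp [ha]⟩
      · exact hmem a ha
    · by_cases hb : ∃ a : F, a ^ 2 = b
      · obtain ⟨a, rfl⟩ := hb
        refine le_trans (Finset.card_le_card (t := {a, -a}) fun c hc => ?_) Finset.card_le_two
        simpa [sq_eq_sq_iff_eq_or_eq_neg] using hc
      · push Not at hb
        rw [Finset.filter_false_of_mem fun c _ => hb c]
        simp
  have hIle : I.card ≤ p := Finset.card_image_le.trans (Finset.card_range p).le
  rw [Finset.card_univ, hn] at hle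
  rw [hn]
  have h1 : (n : ℕ) = 1 := by
    by_contra hne
    have h2le : 2 ≤ (n : ℕ) := by have := n.pos; omega
    have h3 : 3 ≤ p := by
      have := hpp.two_le
      rcases eq_or_ne p 2 with rfl | h
      · rw [hn, Nat.odd_pow_iff n.ne_zero] at hodd; exact absurd hodd (by decide)
      · omega
    have h4 := Nat.pow_le_pow_right hpp.pos h2le
    have h5 : 3 * p ≤ p ^ 2 := by rw [pow_two]; exact Nat.mul_le_mul_right _ h3
    omega
  rw [h1, pow_one]
  exact hpp

/-- The prime divisors of the order of a torus of a dihedral subgroup. -/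
theorem torus {k : ℕ} [NeZero k] (φ : DihedralGroup k →* X) (hφ : Function.Injective φ) {r : ℕ}
    (hr : r.Prime) (hr2 : r ≠ 2) (hd : r ∣ k) : k / r ∣ 2 := by
  obtain ⟨m, rfl⟩ := hd
  rw [Nat.mul_div_cancel_left _ hr.pos]
  haveI := Fact.mk hr
  set y : X := φ (DihedralGroup.r 1 ^ m) with hy
  set s : X := φ (DihedralGroup.sr 0) with hs
  have hyo : orderOf y = r := by
    rw [hy, orderOf_injective φ hφ, orderOf_pow' _ (by rintro rfl; exact NeZero.ne (r * 0) (mul_zero r)),
      DihedralGroup.orderOf_r_one, Nat.gcd_eq_right (dvd_mul_left m r)]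
    exact Nat.mul_div_cancel _ (Nat.pos_of_ne_zero (by rintro rfl; exact NeZero.ne (r * 0) (mul_zero r)))
  have hso : orderOf s = 2 := by rw [hs, orderOf_injective φ hφ, DihedralGroup.orderOf_sr]
  have hy1 : y ≠ 1 := fun h => by rw [h, orderOf_one] at hyo; exact hr.ne_one hyo.symm
  let K : Subgroup (DihedralGroup (r * m)) :=
    { carrier := {g | ∃ i : ℤ, g = DihedralGroup.r ((m * i : ℤ) : ZMod (r * m)) ∨
        g = DihedralGroup.sr ((m * i : ℤ) : ZMod (r * m))}
      one_mem' := ⟨0, Or.inl (by simp [DihedralGroup.r_zero])⟩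
      mul_mem' := by
        rintro a b ⟨i, rfl | rfl⟩ ⟨j, rfl | rfl⟩
        · exact ⟨i + j, Or.inl (by rw [DihedralGroup.r_mul_r]; push_cast; ring_nf)⟩
        · exact ⟨j - i, Or.inr (by rw [DihedralGroup.r_mul_sr]; push_cast; ring_nf)⟩
        · exact ⟨i + j, Or.inr (by rw [DihedralGroup.sr_mul_r]; push_cast; ring_nf)⟩
        · exact ⟨j - i, Or.inl (by rw [DihedralGroup.sr_mul_sr]; push_cast; ring_nf)⟩
      inv_mem' := by
        rintro a ⟨i, rfl | rfl⟩
        · exact ⟨-i, Or.inl (by rw [DihedralGroup.inv_r]; push_cast; ring_nf)⟩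
        · exact ⟨i, Or.inr (by rw [DihedralGroup.inv_sr])⟩ }
  have hrot : ∀ i : ℤ, φ (DihedralGroup.r ((m * i : ℤ) : ZMod (r * m))) = y ^ i := fun i => by
    rw [hy, ← map_zpow, ← zpow_natCast, ← zpow_mul, DihedralGroup.r_one_zpow]
  set H : Subgroup X := zpowers y ⊔ zpowers s with hH
  have hHK : H ≤ K.map φ := sup_le (zpowers_le.2 ⟨_, ⟨1, Or.inl rfl⟩, by rw [hrot, zpow_one]⟩)
    (zpowers_le.2 ⟨_, ⟨0, Or.inr (by simp)⟩, rfl⟩)
  have hsn : zpowers s ≤ normalizer (zpowers y : Set X) := by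
    rw [zpowers_le]
    refine mem_normalizer_zpowers ?_
    have : DihedralGroup.sr 0 * (DihedralGroup.r 1 ^ m) * (DihedralGroup.sr (0 : ZMod (r * m)))⁻¹ =
        (DihedralGroup.r 1 ^ m)⁻¹ := by
      rw [DihedralGroup.r_one_pow, DihedralGroup.inv_sr, DihedralGroup.inv_r, DihedralGroup.sr_mul_r,
        DihedralGroup.sr_mul_sr]
      simp
    rw [hs, hy, ← map_inv, ← map_mul, ← map_mul, this, map_inv]
    exact inv_mem (mem_zpowers _)
  haveI hsol : Group.IsSolvable H := by
    haveI := Components.isSolvable_sup (zpowers y) (zpowers s) hsn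
    exact this
  have hel : ∀ a ∈ H, orderOf a = 2 ∨ a ∈ zpowers y := by
    intro a ha
    obtain ⟨g, ⟨i, rfl | rfl⟩, rfl⟩ := hHK ha
    · exact Or.inr (mem_zpowers_iff.2 ⟨i, (hrot i).symm⟩)
    · exact Or.inl (by rw [orderOf_injective φ hφ, DihedralGroup.orderOf_sr])
  have h2 : TwoPrime H := by
    refine ⟨2, r, Nat.prime_two, hr, fun l hl hld => ?_⟩
    haveI := Fact.mk hl
    obtain ⟨a, ha⟩ := exists_prime_orderOf_dvd_card' l hld
    rw [← orderOf_coe] at ha
    rcases hel _ a.2 with h | h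
    · exact Or.inl (ha ▸ h)
    · right
      refine (Nat.prime_dvd_prime_iff_eq hl hr).1 ?_
      rw [← hyo, ← ha]
      exact orderOf_dvd_of_mem_zpowers h
  have hHne : H ≠ ⊥ := fun h => hy1 ((eq_bot_iff_forall _).1 h y (mem_sup_left (mem_zpowers y)))
  have hNle : normalizer (H : Set X) ≤ normalizer (zpowers y : Set X) := by
    intro g hg
    refine mem_normalizer_zpowers ?_
    refine (hel _ ((mem_normalizer_iff.1 hg y).1 (mem_sup_left (mem_zpowers y)))).resolve_left fun h => ?_
    rw [show orderOf (g * y * g⁻¹) = orderOf y from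
      orderOf_injective (MulAut.conj g).toMonoidHom (MulAut.conj g).injective y, hyo] at h
    exact hr2 h
  have hco := hX.coatom hsol h2 hHne
  have hne := hX.not_normal (H := zpowers y) inferInstance (by rwa [Ne, zpowers_eq_bot])
  have hEq := (hco.le_iff.1 hNle).resolve_left hne
  have hr1 : φ (DihedralGroup.r 1) ∈ normalizer (H : Set X) := by
    rw [← hEq]
    refine mem_normalizer_zpowers ?_
    rw [hy, ← map_inv, ← map_mul, ← map_mul, ← pow_succ', pow_succ, mul_inv_cancel_right]
    exact mem_zpowers _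
  obtain ⟨g, ⟨i, rfl | rfl⟩, hgi⟩ := hHK ((mem_normalizer_iff.1 hr1 s).1 (mem_sup_right (mem_zpowers s)))
  · rw [hs, ← map_inv, ← map_mul, ← map_mul] at hgi
    have := hφ hgi
    rw [DihedralGroup.inv_r, DihedralGroup.r_mul_sr, DihedralGroup.sr_mul_r] at this
    exact absurd this (by simp)
  · rw [hs, ← map_inv, ← map_mul, ← map_mul] at hgi
    have := hφ hgi
    rw [DihedralGroup.inv_r, DihedralGroup.r_mul_sr, DihedralGroup.sr_mul_r] at this
    injection this with this
    have hz : ((m * i + 2 : ℤ) : ZMod (r * m)) = 0 := by push_cast; rw [← Int.cast_natCast (R := ZMod (r * m)) m] ; push_cast at this ⊢; rw [this]; ring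
    rw [ZMod.intCast_zmod_eq_zero_iff_dvd] at hz
    have : (m : ℤ) ∣ (m * i + 2 : ℤ) := (Int.natCast_dvd_natCast.2 (dvd_mul_left m r)).trans hz
    have := (dvd_add_right (dvd_mul_right (m : ℤ) i)).1 this
    exact_mod_cast this

/-- The socle is `PSL(2, q)` with `q` a prime at most 13, and contains a dihedral group of order 12 when `q ≥ 11`. -/
theorem small_field {S : Subgroup X} (hS : Socle S) {F : Type} [Field F] [Fintype F]
    (hodd : Odd (Fintype.card F)) (h3 : 3 < Fintype.card F)
    (e : S ≃* Matrix.ProjectiveSpecialLinearGroup (Fin 2) F) :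
    Fintype.card F = 5 ∨ Fintype.card F = 7 ∨ ((Fintype.card F = 11 ∨ Fintype.card F = 13) ∧
      ∃ φ : DihedralGroup 6 →* X, Function.Injective φ ∧ ∀ a, φ a ∈ S) := by
  obtain ⟨q, hq⟩ : ∃ q, Fintype.card F = q := ⟨_, rfl⟩
  have hp := card_field_prime hX hS hodd e
  rw [hq] at hp hodd h3 ⊢
  have hq2 : q % 2 = 1 := Nat.odd_iff.1 hodd
  have hg : Nat.gcd 2 (q - 1) = 2 := Nat.gcd_eq_left (by omega)
  by_cases h5 : q = 5
  · exact Or.inl h5
  by_cases h7 : q = 7
  · exact Or.inr (Or.inl h7)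
  refine Or.inr (Or.inr ?_)
  have h9 : q ≠ 9 := fun h => by rw [h] at hp; exact absurd hp (by norm_num)
  have h11 : 11 ≤ q := by omega
  have key : ∀ (k : ℕ) (H : Subgroup (Matrix.ProjectiveSpecialLinearGroup (Fin 2) F)),
      H ≃* DihedralGroup k → 3 ∣ k → 5 ≤ k →
      k = 6 ∧ ∃ φ : DihedralGroup 6 →* X, Function.Injective φ ∧ ∀ a, φ a ∈ S := by
    intro k H d h3k h5k
    haveI : NeZero k := ⟨by omega⟩
    let φ : DihedralGroup k →* X := (emb e).comp (H.subtype.comp d.symm.toMonoidHom)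
    have hφ : Function.Injective φ := (emb_injective e).comp (H.subtype_injective.comp d.symm.injective)
    have h := torus hX φ hφ Nat.prime_three (by decide) h3k
    have hk : k / 3 ≤ 2 := Nat.le_of_dvd (by omega) h
    obtain rfl : k = 6 := by omega
    exact ⟨rfl, φ, hφ, fun a => emb_mem e _⟩
  have h3q : ¬ 3 ∣ q := fun h => by
    have := (Nat.prime_dvd_prime_iff_eq Nat.prime_three hp).1 h
    omega
  by_cases hplus : 3 ∣ (q + 1) / 2
  · obtain ⟨H, -, ⟨d⟩⟩ := S0811.result (q := q) hq (by simp; omega)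
    rw [hg] at d
    obtain ⟨hk, h⟩ := key _ H d hplus (by omega)
    exact ⟨by omega, h⟩
  · have h13 : q ≠ 11 := fun h => hplus (by rw [h]; norm_num)
    obtain ⟨H, -, ⟨d⟩⟩ := S0812.result (q := q) hq (by simp; omega)
    rw [hg] at d
    have h6 : q % 6 = 1 := by
      rcases (show q % 6 = 1 ∨ q % 6 = 5 by omega) with h | h
      · exact h
      · exact absurd (⟨q / 6 + 1, by omega⟩ : 3 ∣ (q + 1) / 2) hplus
    obtain ⟨hk, h⟩ := key _ H d (by omega) (by omega)
    exact ⟨by omega, h⟩

end Cfsg.Agent.MaxNorm13
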